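import Cfsg.Agent.Lib.CharsMore.Parity.Corr
import Cfsg.Agent.Lib.Coprime.Action

/-!
# The setup inside an ambient group
-/

set_option autoImplicit false
set_option linter.unusedSectionVars false
set_option linter.style.haveILetI false

namespace CfsgLib.CharsMore.Parity

open Cfsg Module

variable {Γ : Type*} [Group Γ]

/-- Conjugation as a homomorphism to the automorphisms of a normalised subgroup. -/
def conjHom (A K : Subgroup Γ) (h : ∀ a ∈ A, ∀ k ∈ K, a * k * a⁻¹ ∈ K) : A →* MulAut K where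
  toFun a :=
    { toFun := fun k => ⟨(a : Γ) * k * (a : Γ)⁻¹, h a a.2 k k.2⟩
      invFun := fun k => ⟨(a : Γ)⁻¹ * k * (a : Γ), by
        have := h (a : Γ)⁻¹ (A.inv_mem a.2) k k.2
        rwa [inv_inv] at this⟩
      left_inv := fun k => Subtype.ext (by simp [mul_assoc])
      right_inv := fun k => Subtype.ext (by simp [mul_assoc])
      map_mul' := fun k k' => Subtype.ext (by simp [mul_assoc]) }
  map_one' := MulEquiv.ext fun k => Subtype.ext (by simp)
  map_mul' a b := MulEquiv.ext fun k => Subtype.ext (by simp [mul_assoc])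

@[simp] theorem coe_conjHom (A K : Subgroup Γ) (h : ∀ a ∈ A, ∀ k ∈ K, a * k * a⁻¹ ∈ K) (a : A)
    (k : K) : ((conjHom A K h a k : K) : Γ) = (a : Γ) * k * (a : Γ)⁻¹ := rfl

/-- The characters trivial on a subgroup. -/
def charsTrivialOn {K L : Type*} [Group K] [Group L] (κ : L →* K) : Subgroup (K →* ℂˣ) where
  carrier := {a | ∀ l, a (κ l) = 1}
  one_mem' _ := rfl
  mul_mem' {a b} ha hb l := by rw [MonoidHom.mul_apply, ha, hb, one_mul]
  inv_mem' {a} ha l := by rw [MonoidHom.inv_apply, ha, inv_one]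

theorem exists_char_ne_one {K L : Type*} [Group K] [Group L] [Fintype K] (κ : L →* K)
    (hn : κ.range.Normal) (hab : ∀ a b : K, a * b * a⁻¹ * b⁻¹ ∈ κ.range) {k : K}
    (hk : k ∉ Set.range κ) : ∃ ν ∈ charsTrivialOn κ, ν k ≠ 1 := by
  haveI := hn
  letI : CommGroup (K ⧸ κ.range) :=
    { (inferInstance : Group (K ⧸ κ.range)) with
      mul_comm := fun x y => by
        obtain ⟨a, rfl⟩ := QuotientGroup.mk_surjective x
        obtain ⟨b, rfl⟩ := QuotientGroup.mk_surjective y
        rw [← QuotientGroup.mk_mul, ← QuotientGroup.mk_mul, QuotientGroup.eq]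
        have h := hab b⁻¹ a⁻¹
        simpa [mul_assoc] using h }
  have hne : (k : K ⧸ κ.range) ≠ 1 := fun h => hk ((QuotientGroup.eq_one_iff k).1 h)
  haveI : NeZero (Monoid.exponent (K ⧸ κ.range)) := ⟨Monoid.exponent_ne_zero_of_finite⟩
  obtain ⟨χ, hχ⟩ := CommGroup.exists_apply_ne_one_of_hasEnoughRootsOfUnity (K ⧸ κ.range) ℂ hne
  refine ⟨χ.comp (QuotientGroup.mk' κ.range), fun l => ?_, hχ⟩
  show χ ((κ l : K) : K ⧸ κ.range) = 1
  rw [(QuotientGroup.eq_one_iff (N := κ.range) (κ l)).2 (MonoidHom.mem_range.2 ⟨l, rfl⟩), map_one]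

/-- The hypotheses of the correspondence give a setup. -/
theorem exists_setup [Fintype Γ] (G S C K L : Subgroup Γ) (hnorm : ∀ s ∈ S, ∀ g ∈ G, s * g * s⁻¹ ∈ G)
    (hcop : (Nat.card G).Coprime (Nat.card S)) (hGsolv : Group.IsSolvable G)
    (hodd : Odd (Nat.card G)) (hCG : C ≤ G) (hCS : ∀ c ∈ C, ∀ s ∈ S, s * c * s⁻¹ = c)
    (hCfix : ∀ x ∈ G, (∀ s ∈ S, s * x = x * s) → x ∈ C)
    (hLK : L ≤ K) (hKG : K ≤ G) (hKn : ∀ g ∈ G, ∀ k ∈ K, g * k * g⁻¹ ∈ K)
    (hLn : ∀ g ∈ G, ∀ l ∈ L, g * l * g⁻¹ ∈ L) (hKS : ∀ s ∈ S, ∀ k ∈ K, s * k * s⁻¹ ∈ K)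
    (hLS : ∀ s ∈ S, ∀ l ∈ L, s * l * s⁻¹ ∈ L) (hab : ∀ a ∈ K, ∀ b ∈ K, a * b * a⁻¹ * b⁻¹ ∈ L)
    (hGKC : ∀ g ∈ G, ∃ k ∈ K, ∃ c ∈ C, g = k * c) (hCK : C ⊓ K ≤ L) (H : Subgroup Γ)
    (hH : ∀ h, h ∈ H ↔ ∃ l ∈ L, ∃ c ∈ C, h = l * c) :
    ∃ T : Setup G K L C S, T.H = H.subgroupOf G ∧
      ∀ (s : S) (g : G), ((T.θ s g : G) : Γ) = (s : Γ) * g * (s : Γ)⁻¹ := by
  classical
  have hKconj : ∀ c ∈ C, ∀ k ∈ K, c * k * c⁻¹ ∈ K := fun c hc => hKn c (hCG hc)
  have hLconj : ∀ c ∈ C, ∀ l ∈ L, c * l * c⁻¹ ∈ L := fun c hc => hLn c (hCG hc)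
  set κ : L →* K := Subgroup.inclusion hLK with hκ
  set φ : S →* MulAut K := conjHom S K hKS with hφ
  set cj : C →* MulAut K := conjHom C K hKconj with hcj
  set cl : C →* MulAut L := conjHom C L hLconj with hcl
  set D := charsTrivialOn κ with hD
  have hκrange : ∀ k : K, k ∈ κ.range ↔ (k : Γ) ∈ L := fun k =>
    ⟨fun ⟨l, hl⟩ => hl ▸ l.2, fun hk => ⟨⟨k, hk⟩, Subtype.ext rfl⟩⟩
  have hn : κ.range.Normal := ⟨fun k hk g => by
    rw [hκrange] at hk ⊢
    exact hLn g (hKG g.2) k hk⟩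
  have hab' : ∀ a b : K, a * b * a⁻¹ * b⁻¹ ∈ κ.range := fun a b => by
    rw [hκrange]
    exact hab a a.2 b b.2
  have hactS : ∀ (s : S), ∀ a ∈ D, act (φ s) a ∈ D := by
    intro s a ha l
    have h1 : (φ s).symm (κ l) = κ ⟨(s : Γ)⁻¹ * l * (s : Γ), by
        have := hLS (s : Γ)⁻¹ (S.inv_mem s.2) l l.2
        rwa [inv_inv] at this⟩ := Subtype.ext rfl
    rw [act_apply, h1, ha]
  have hnoFix : ∀ a ∈ D, (∀ s, act (φ s) a = a) → a = 1 := by
    intro a ha hfix
    refine MonoidHom.ext fun k => ?_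
    have hak : ∀ s, a (φ s k) = a k := by
      intro s
      conv_rhs => rw [← (φ s).symm_apply_apply k, ← act_apply, hfix s]
    -- the orbit product modulo `L`
    letI : CommGroup (K ⧸ κ.range) :=
      { (inferInstance : Group (K ⧸ κ.range)) with
        mul_comm := fun x y => by
          obtain ⟨a, rfl⟩ := QuotientGroup.mk_surjective x
          obtain ⟨b, rfl⟩ := QuotientGroup.mk_surjective y
          rw [← QuotientGroup.mk_mul, ← QuotientGroup.mk_mul, QuotientGroup.eq]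
          have h := hab' b⁻¹ a⁻¹
          simpa [mul_assoc] using h }
    set P : K ⧸ κ.range := ∏ s : S, ((φ s k : K) : K ⧸ κ.range) with hP
    let ab : (K ⧸ κ.range) →* ℂˣ := QuotientGroup.lift κ.range a (fun x ⟨l, hl⟩ => by
      show a x = 1
      rw [← hl, ha])
    have hPfix : P = 1 := by
      obtain ⟨p, hp⟩ := QuotientGroup.mk_surjective P
      have hfp : ∀ t : S, p⁻¹ * φ t p ∈ κ.range := by
        intro t
        have hle : κ.range ≤ κ.range.comap (φ t).toMonoidHom := fun x hx => by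
          rw [hκrange] at hx
          rw [Subgroup.mem_comap, hκrange]
          exact hLS t t.2 x hx
        have h1 : QuotientGroup.map κ.range κ.range (φ t).toMonoidHom hle P = P := by
          rw [hP, map_prod]
          refine Fintype.prod_equiv (Equiv.mulLeft t) _ _ fun s => ?_
          show ((φ t (φ s k) : K) : K ⧸ κ.range) = _
          rw [Equiv.coe_mulLeft, map_mul]
          rfl
        rw [← hp] at h1
        exact QuotientGroup.eq.1 (h1.symm : ((p : K) : K ⧸ κ.range) = ((φ t p : K) : K ⧸ κ.range))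
      have hSN : S ≤ Subgroup.normalizer (L : Set Γ) := by
        intro s hs
        rw [Subgroup.mem_normalizer_iff]
        intro x
        refine ⟨fun hx => hLS s hs x hx, fun hx => ?_⟩
        have := hLS s⁻¹ (S.inv_mem hs) _ hx
        rwa [show s⁻¹ * (s * x * s⁻¹) * s⁻¹⁻¹ = x by group] at this
      have hcopL : (Nat.card S).Coprime (Nat.card L) :=
        (Nat.Coprime.coprime_dvd_left (Subgroup.card_dvd_of_le (hLK.trans hKG)) hcop).symm
      haveI : Group.IsSolvable G := hGsolv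
      have hLsolv : Group.IsSolvable L :=
        Group.isSolvable_of_isSolvable_injective (f := Subgroup.inclusion (hLK.trans hKG))
          (Subgroup.inclusion_injective _)
      obtain ⟨c, hc, hpc⟩ := CfsgLib.Coprime.exists_centralizing_in_coset (A := S) (N := L)
        hSN hcopL (Or.inr hLsolv) (k := (p : Γ)) (fun s hs => (hκrange _).1 (hfp ⟨s, hs⟩))
      have hcK : c ∈ K := by
        have := K.mul_mem p.2 (hLK hpc)
        rwa [mul_inv_cancel_left] at this
      have hcC : c ∈ C := hCfix c (hKG hcK) fun s hs => (Subgroup.mem_centralizer_iff.1 hc s hs)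
      have hcL : c ∈ L := hCK ⟨hcC, hcK⟩
      have hpL : (p : Γ) ∈ L := by
        have := L.mul_mem hcL (L.inv_mem hpc)
        rwa [mul_inv_rev, inv_inv, mul_inv_cancel_left] at this
      rw [← hp, QuotientGroup.eq_one_iff, hκrange]
      exact hpL
    have hm : a k ^ Nat.card S = 1 := by
      have h2 : ab P = a k ^ Nat.card S := by
        rw [hP, map_prod, Finset.prod_congr rfl fun s _ => (show ab ((φ s k : K) : K ⧸ κ.range) = a k
          from hak s), Finset.prod_const, Finset.card_univ, Nat.card_eq_fintype_card]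
      rw [← h2, hPfix, map_one]
    have hN : a k ^ Nat.card K = 1 := by rw [← map_pow, pow_card_eq_one', map_one]
    have hgcd := pow_gcd_eq_one.2 ⟨hN, hm⟩
    rwa [Nat.Coprime.coprime_dvd_left (Subgroup.card_dvd_of_le hKG) hcop, pow_one] at hgcd
  let d : Data K S :=
    { D := D, φ := φ, odd := hodd.of_dvd_nat (Subgroup.card_dvd_of_le hKG),
      cop := Nat.Coprime.coprime_dvd_left (Subgroup.card_dvd_of_le hKG) hcop,
      actD := hactS, noFix := hnoFix }
  let B : Base K L S :=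
    { d := d, κ := κ, κ_inj := Subgroup.inclusion_injective hLK, triv := fun ν hν => hν,
      sep := fun k hk => exists_char_ne_one κ hn hab' hk, ψ := conjHom S L hLS,
      equiv := fun s l => Subtype.ext rfl }
  have hcompat : ∀ c : C, d.Compat (cj c) := by
    intro c
    have hmem : ∀ c : C, ∀ a ∈ D, act (cj c) a ∈ D := by
      intro c a ha l
      have h1 : (cj c).symm (κ l) = κ ((cl c).symm l) := Subtype.ext rfl
      rw [act_apply, h1, ha]
    refine ⟨fun s => MulEquiv.ext fun k => Subtype.ext ?_, hmem c, fun a ha => ?_⟩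
    · show (c : Γ) * ((s : Γ) * k * (s : Γ)⁻¹) * (c : Γ)⁻¹ =
        (s : Γ) * ((c : Γ) * k * (c : Γ)⁻¹) * (s : Γ)⁻¹
      have hsc : (s : Γ) * c = c * s := by
        conv_rhs => rw [← hCS c c.2 s s.2]
        group
      calc (c : Γ) * ((s : Γ) * k * (s : Γ)⁻¹) * (c : Γ)⁻¹
          = ((c : Γ) * s) * k * ((c : Γ) * s)⁻¹ := by group
        _ = _ := by rw [← hsc]; group
    · have := hmem c⁻¹ a ha
      rwa [map_inv] at this
  let T : Setup G K L C S :=
    { B := B, ι := Subgroup.inclusion hKG, ι_inj := Subgroup.inclusion_injective hKG,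
      j := Subgroup.inclusion hCG, cj := cj, cl := cl, θ := conjHom S G hnorm,
      hcj := fun c k => Subtype.ext rfl, hcl := fun c l => Subtype.ext rfl,
      fixC := fun s c => Subtype.ext (hCS c c.2 s s.2),
      hφ := fun s k => Subtype.ext rfl,
      hgen := fun g => by
        obtain ⟨k, hk, c, hc, hg⟩ := hGKC g g.2
        exact ⟨⟨k, hk⟩, ⟨c, hc⟩, Subtype.ext hg⟩
      inter := fun k ⟨c, hc⟩ => by
        have h1 : (c : Γ) = (k : Γ) := congrArg Subtype.val hc
        exact (hκrange k).2 (hCK ⟨h1 ▸ c.2, k.2⟩)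
      H := H.subgroupOf G
      memH := fun h => by
        rw [Subgroup.mem_subgroupOf, hH]
        exact ⟨fun ⟨l, hl, c, hc, he⟩ => ⟨⟨l, hl⟩, ⟨c, hc⟩, Subtype.ext he⟩,
          fun ⟨l, c, he⟩ => ⟨l, l.2, c, c.2, congrArg Subtype.val he⟩⟩
      compat := hcompat
      oddC := hodd.of_dvd_nat (Subgroup.card_dvd_of_le hCG)
      oddG := hodd
      copC := Nat.Coprime.coprime_dvd_left (Subgroup.card_dvd_of_le hCG) hcop }
  exact ⟨T, rfl, fun s g => rfl⟩

end CfsgLib.CharsMore.Parity
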