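import Cfsg.Agent.Lib.Chars.Irr
import Cfsg.Agent.Lib.Chars.Char
import Cfsg.Agent.Lib.CharsMore.Intertwiners
import Cfsg.Agent.Lib.Modular.SimpleRep
import Mathlib

/-!
# Blocks of complex group algebras, twists and graded lines
-/

set_option autoImplicit false
set_option linter.unusedSectionVars false
set_option linter.style.haveILetI false

namespace CfsgLib.CharsMore.Parity

open Cfsg Module
open scoped ComplexConjugate

/-- The complex group algebra. -/
abbrev GA (K : Type*) [Group K] := MonoidAlgebra ℂ K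

section Basic

variable {K K' K'' : Type*} [Group K] [Group K'] [Group K'']

/-- The basis element of a group element. -/
noncomputable def gen (k : K) : GA K := MonoidAlgebra.of ℂ K k

theorem gen_eq_single (k : K) : gen k = MonoidAlgebra.single k 1 := rfl

theorem gen_mul (i j : K) : gen (i * j) = gen i * gen j := map_mul _ i j

@[simp] theorem gen_one : gen (1 : K) = 1 := map_one _

theorem asAlgebraHom_gen {V : Type*} [AddCommGroup V] [Module ℂ V] (ρ : Representation ℂ K V)
    (k : K) : ρ.asAlgebraHom (gen k) = ρ k := by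
  rw [gen_eq_single, Representation.asAlgebraHom_single_one]

theorem eq_sum [Fintype K] (y : GA K) : y = ∑ k : K, y.coeff k • gen k := by
  classical
  apply MonoidAlgebra.coeff_injective
  ext j
  simp [gen_eq_single, MonoidAlgebra.coeff_sum, Finsupp.single_apply]

theorem coeff_sum_gen [Fintype K] (f : K → ℂ) (j : K) :
    (∑ k : K, f k • gen k : GA K).coeff j = f j := by
  classical
  simp [gen_eq_single, MonoidAlgebra.coeff_sum, Finsupp.single_apply]

theorem ext_gen [Fintype K] {M : Type*} [AddCommMonoid M] [Module ℂ M] {f g : GA K →ₗ[ℂ] M}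
    (h : ∀ k, f (gen k) = g (gen k)) (y : GA K) : f y = g y := by
  rw [eq_sum y]
  simp [map_sum, map_smul, h]

theorem algHom_ext_gen [Fintype K] {A : Type*} [Semiring A] [Algebra ℂ A] {f g : GA K →ₐ[ℂ] A}
    (h : ∀ k, f (gen k) = g (gen k)) (y : GA K) : f y = g y :=
  ext_gen (f := f.toLinearMap) (g := g.toLinearMap) h y

theorem comm_of_gen [Fintype K] {z : GA K} (h : ∀ k, gen k * z = z * gen k) (y : GA K) :
    y * z = z * y := by
  rw [eq_sum y, Finset.sum_mul, Finset.mul_sum]
  exact Finset.sum_congr rfl fun k _ => by rw [smul_mul_assoc, mul_smul_comm, h]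

/-- The algebra map of a group homomorphism. -/
noncomputable def mapA (α : K →* K') : GA K →ₐ[ℂ] GA K' :=
  MonoidAlgebra.lift ℂ (GA K') K ((MonoidAlgebra.of ℂ K').comp α)

@[simp] theorem mapA_gen (α : K →* K') (k : K) : mapA α (gen k) = gen (α k) := by
  simp [mapA, gen, MonoidAlgebra.lift_apply']

theorem mapA_mapA [Fintype K] (β : K' →* K'') (α : K →* K') (y : GA K) :
    mapA β (mapA α y) = mapA (β.comp α) y :=
  algHom_ext_gen (f := (mapA β).comp (mapA α)) (g := mapA (β.comp α)) (fun k => by simp) y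

theorem mapA_id [Fintype K] (y : GA K) : mapA (MonoidHom.id K) y = y :=
  algHom_ext_gen (g := AlgHom.id ℂ (GA K)) (fun k => by simp) y

/-- The group algebra isomorphism of a group isomorphism. -/
noncomputable def mapE [Fintype K] [Fintype K'] (α : K ≃* K') : GA K ≃ₐ[ℂ] GA K' :=
  AlgEquiv.ofAlgHom (mapA α.toMonoidHom) (mapA α.symm.toMonoidHom)
    (AlgHom.ext fun y => by
      rw [AlgHom.comp_apply, mapA_mapA]
      rw [show α.toMonoidHom.comp α.symm.toMonoidHom = MonoidHom.id K' by ext; simp, mapA_id]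
      rfl)
    (AlgHom.ext fun y => by
      rw [AlgHom.comp_apply, mapA_mapA]
      rw [show α.symm.toMonoidHom.comp α.toMonoidHom = MonoidHom.id K by ext; simp, mapA_id]
      rfl)

@[simp] theorem mapE_gen [Fintype K] [Fintype K'] (α : K ≃* K') (k : K) :
    mapE α (gen k) = gen (α k) := mapA_gen _ k

/-- Twisting by a linear character. -/
noncomputable def twist (a : K →* ℂˣ) : GA K →ₐ[ℂ] GA K :=
  MonoidAlgebra.lift ℂ (GA K) K
    { toFun := fun k => (a k : ℂ) • gen k
      map_one' := by simp
      map_mul' := fun x y => by simp [smul_mul_smul_comm, gen_mul, Units.val_mul, smul_smul, mul_comm] }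

@[simp] theorem twist_gen (a : K →* ℂˣ) (k : K) : twist a (gen k) = (a k : ℂ) • gen k := by
  simp [twist, gen, MonoidAlgebra.lift_apply']

theorem twist_twist [Fintype K] (a b : K →* ℂˣ) (y : GA K) :
    twist a (twist b y) = twist (a * b) y :=
  algHom_ext_gen (f := (twist a).comp (twist b)) (g := twist (a * b))
    (fun k => by
      rw [AlgHom.comp_apply, twist_gen, map_smul, twist_gen, twist_gen, smul_smul]
      rw [MonoidHom.mul_apply, Units.val_mul, mul_comm]) y

theorem twist_one [Fintype K] (y : GA K) : twist (1 : K →* ℂˣ) y = y :=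
  algHom_ext_gen (g := AlgHom.id ℂ (GA K)) (fun k => by simp) y

/-- The twist as an automorphism. -/
noncomputable def twistE [Fintype K] (a : K →* ℂˣ) : GA K ≃ₐ[ℂ] GA K :=
  AlgEquiv.ofAlgHom (twist a) (twist a⁻¹)
    (AlgHom.ext fun y => by rw [AlgHom.comp_apply, twist_twist, show a * a⁻¹ = 1 from mul_inv_cancel a, twist_one]; rfl)
    (AlgHom.ext fun y => by rw [AlgHom.comp_apply, twist_twist, show a⁻¹ * a = 1 from inv_mul_cancel a, twist_one]; rfl)

theorem mapA_twist [Fintype K] (α : K ≃* K) (a : K →* ℂˣ) (y : GA K) :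
    mapA α.toMonoidHom (twist a y) = twist (a.comp α.symm.toMonoidHom) (mapA α.toMonoidHom y) :=
  algHom_ext_gen (f := (mapA α.toMonoidHom).comp (twist a))
    (g := (twist (a.comp α.symm.toMonoidHom)).comp (mapA α.toMonoidHom))
    (fun k => by
      rw [AlgHom.comp_apply, AlgHom.comp_apply, twist_gen, map_smul, mapA_gen, twist_gen]
      simp) y

/-- A block idempotent: a primitive central idempotent. -/
structure IsBlock (e : GA K) : Prop where
  idem : e * e = e
  comm : ∀ y, e * y = y * e
  scalar : ∀ z, (∀ y, z * y = y * z) → z * e = z → ∃ c : ℂ, z = c • e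
  ne_zero : e ≠ 0

theorem IsBlock.eq_of_mul_ne_zero {e e' : GA K} (he : IsBlock e) (he' : IsBlock e')
    (h : e * e' ≠ 0) : e = e' := by
  have hc : ∀ y, (e * e') * y = y * (e * e') := fun y => by
    rw [mul_assoc, he'.comm, ← mul_assoc, he.comm, mul_assoc]
  obtain ⟨c, hc1⟩ := he.scalar _ hc (by rw [mul_assoc, ← he.comm e', ← mul_assoc, he.idem])
  obtain ⟨c', hc2⟩ := he'.scalar _ hc (by rw [mul_assoc, he'.idem])
  have hsq : (e * e') * (e * e') = e * e' := by
    rw [mul_assoc, ← mul_assoc e', ← he.comm e', mul_assoc e, he'.idem, ← mul_assoc, he.idem]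
  have key : ∀ {f : GA K}, IsBlock f → ∀ d : ℂ, e * e' = d • f → e * e' = f := by
    intro f hf d hd
    have h2 := hsq
    rw [hd, smul_mul_smul_comm, hf.idem] at h2
    have hd0 : d ≠ 0 := fun h0 => h (by rw [hd, h0, zero_smul])
    have : d * d = d := smul_left_injective ℂ hf.ne_zero h2
    rw [hd, (mul_eq_left₀ hd0).1 this, one_smul]
  exact (key he c hc1).symm.trans (key he' c' hc2)

theorem IsBlock.mul_eq_zero {e e' : GA K} (he : IsBlock e) (he' : IsBlock e') (h : e ≠ e') :
    e * e' = 0 := by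
  by_contra h0
  exact h (he.eq_of_mul_ne_zero he' h0)

theorem IsBlock.map {e : GA K} (he : IsBlock e) (Φ : GA K ≃ₐ[ℂ] GA K') : IsBlock (Φ e) where
  idem := by rw [← map_mul, he.idem]
  comm y := by
    obtain ⟨x, rfl⟩ := Φ.surjective y
    rw [← map_mul, he.comm, map_mul]
  scalar z hz hze := by
    obtain ⟨x, rfl⟩ := Φ.surjective z
    obtain ⟨c, hc⟩ := he.scalar x (fun y => Φ.injective (by rw [map_mul, map_mul, hz]))
      (Φ.injective (by rw [map_mul, hze]))
    exact ⟨c, by rw [hc, map_smul]⟩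
  ne_zero := by
    rw [ne_eq, map_eq_zero_iff Φ Φ.injective]
    exact he.ne_zero

theorem IsBlock.mapA [Fintype K] [Fintype K'] {e : GA K} (he : IsBlock e) (α : K ≃* K') :
    IsBlock (Parity.mapA α.toMonoidHom e) := he.map (mapE α)

theorem IsBlock.twist [Fintype K] {e : GA K} (he : IsBlock e) (a : K →* ℂˣ) :
    IsBlock (Parity.twist a e) := he.map (twistE a)

/-- Linear extension of a function to the group algebra. -/
noncomputable def ev [Fintype K] (χ : K → ℂ) : GA K →ₗ[ℂ] ℂ where
  toFun y := ∑ k : K, y.coeff k * χ k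
  map_add' x y := by simp [add_mul, Finset.sum_add_distrib]
  map_smul' c y := by simp [Finset.mul_sum, mul_assoc]

@[simp] theorem ev_gen [Fintype K] (χ : K → ℂ) (k : K) : ev χ (gen k) = χ k := by
  classical
  show ∑ j : K, (gen k : GA K).coeff j * χ j = χ k
  simp [gen_eq_single, Finsupp.single_apply]

theorem ev_character [Fintype K] {V : Type*} [AddCommGroup V] [Module ℂ V]
    (ρ : Representation ℂ K V) (y : GA K) :
    ev ρ.character y = LinearMap.trace ℂ V (ρ.asAlgebraHom y) :=
  ext_gen (f := ev ρ.character) (g := (LinearMap.trace ℂ V).comp ρ.asAlgebraHom.toLinearMap)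
    (fun k => by simp [Representation.character, asAlgebraHom_gen]) y

end Basic

section Blocks

variable {K : Type*} [Group K] [Fintype K]

/-- The block idempotent of an irreducible character. -/
noncomputable def blockOf (θ : K → ℂ) : GA K :=
  (θ 1 / (Nat.card K : ℂ)) • ∑ k : K, θ k⁻¹ • gen k

theorem asAlgebraHom_blockOf {θ : K → ℂ} (hθ : IsIrrCharacter K θ) {V : Type*} [AddCommGroup V]
    [Module ℂ V] [FiniteDimensional ℂ V] (σ : Representation ℂ K V) [σ.IsIrreducible]
    [Decidable (σ.character = θ)] :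
    σ.asAlgebraHom (blockOf θ) = if σ.character = θ then 1 else 0 := by
  classical
  obtain ⟨c, hc, hcd⟩ := Chars.avgOp_eq_scalar σ (Chars.isClassFunction_irr ⟨θ, hθ⟩)
  have hd0 : (finrank ℂ V : ℂ) ≠ 0 :=
    Nat.cast_ne_zero.2 (Chars.finrank_pos_of_isIrreducible σ).ne'
  have hN := Chars.card_ne_zero K
  have hop : σ.asAlgebraHom (blockOf θ) = (θ 1 / (Nat.card K : ℂ)) • Chars.avgOp σ θ := by
    rw [blockOf, map_smul, map_sum, Chars.avgOp]
    congr 1
    refine Fintype.sum_equiv (Equiv.inv K) _ _ fun k => ?_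
    simp [asAlgebraHom_gen]
  rw [hop, hc, smul_smul]
  have hψ : IsIrrCharacter K σ.character := Chars.isIrrCharacter_character σ
  split_ifs with h
  · subst h
    rw [Chars.inner_irr_self ⟨_, hψ⟩, mul_one] at hcd
    have h1 : σ.character 1 = (finrank ℂ V : ℂ) := Representation.char_one σ
    have : σ.character 1 / (Nat.card K : ℂ) * c = 1 := by
      rw [h1, div_mul_eq_mul_div, mul_comm, hcd, div_self hN]
    rw [this, one_smul]
    rfl
  · have h0 : classInner θ σ.character = 0 :=
      Chars.inner_irr_ne (χ := ⟨θ, hθ⟩) (ψ := ⟨_, hψ⟩) fun he => h (congrArg Subtype.val he).symm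
    rw [h0, mul_zero, mul_eq_zero] at hcd
    rw [hcd.resolve_right hd0, mul_zero, zero_smul]

/-- An element killed by every irreducible representation vanishes. -/
theorem eq_zero_of_forall_irr {y : GA K}
    (h : ∀ (n : ℕ) (σ : Representation ℂ K (Fin n → ℂ)), σ.IsIrreducible → σ.asAlgebraHom y = 0) :
    y = 0 := by
  classical
  haveI := Chars.irrFintype K
  apply MonoidAlgebra.coeff_injective
  ext j
  have h0 : ∀ θ : IrrCharacter K, ev (θ : K → ℂ) (y * gen j⁻¹) = 0 := by
    intro θ
    obtain ⟨n, σ, hσ, hθ⟩ := θ.2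
    rw [← hθ, ev_character, map_mul, h n σ hσ, zero_mul, map_zero]
  have h1 : ∀ θ : IrrCharacter K, ev (θ : K → ℂ) (y * gen j⁻¹) =
      ∑ k : K, y.coeff k * (θ : K → ℂ) (k * j⁻¹) := by
    intro θ
    conv_lhs => rw [eq_sum y, Finset.sum_mul, map_sum]
    refine Finset.sum_congr rfl fun k _ => ?_
    rw [smul_mul_assoc, map_smul, ← gen_mul, ev_gen, smul_eq_mul]
  have h2 : (∑ k : K, y.coeff k * ∑ θ : IrrCharacter K, (θ : K → ℂ) 1 * (θ : K → ℂ) (k * j⁻¹)) = 0 := by
    simp only [Finset.mul_sum]
    rw [Finset.sum_comm]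
    refine Finset.sum_eq_zero fun θ _ => ?_
    have := h0 θ
    rw [h1] at this
    rw [← mul_zero ((θ : K → ℂ) 1), ← this, Finset.mul_sum]
    exact Finset.sum_congr rfl fun k _ => by ring
  rw [Finset.sum_eq_single j] at h2
  · rw [Chars.sum_degree_mul, if_pos (mul_inv_cancel j)] at h2
    exact (mul_eq_zero.1 h2).resolve_right (Chars.card_ne_zero K)
  · intro k _ hk
    rw [Chars.sum_degree_mul, if_neg (fun h => hk (mul_inv_eq_one.1 h)), mul_zero]
  · simp

theorem sum_blockOf [Fintype (IrrCharacter K)] : ∑ θ : IrrCharacter K, blockOf (θ : K → ℂ) = 1 := by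
  classical
  refine sub_eq_zero.1 (eq_zero_of_forall_irr fun n σ hσ => ?_)
  rw [map_sub, map_sum, map_one, Finset.sum_eq_single ⟨_, Chars.isIrrCharacter_character σ⟩]
  · rw [asAlgebraHom_blockOf (Chars.isIrrCharacter_character σ), if_pos rfl, sub_self]
  · intro θ _ hne
    rw [asAlgebraHom_blockOf θ.2, if_neg fun h => hne (Subtype.ext h.symm)]
  · simp

theorem schur_asAlgebraHom {V : Type*} [AddCommGroup V] [Module ℂ V] [FiniteDimensional ℂ V]
    (σ : Representation ℂ K V) [σ.IsIrreducible] {z : GA K} (hz : ∀ y, z * y = y * z) :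
    ∃ c : ℂ, σ.asAlgebraHom z = c • 1 :=
  schur_scalar σ _ fun k => by
    rw [← asAlgebraHom_gen σ k, ← map_mul, hz, map_mul]

theorem blockOf_comm {θ : K → ℂ} (hθ : IsClassFunction K θ) (y : GA K) :
    blockOf θ * y = y * blockOf θ := by
  refine (comm_of_gen (fun j => ?_) y).symm
  rw [blockOf, mul_smul_comm, smul_mul_assoc, Finset.mul_sum, Finset.sum_mul]
  congr 1
  refine Fintype.sum_equiv (MulAut.conj j).toEquiv _ _ fun k => ?_
  have hcf : θ (j * k * j⁻¹)⁻¹ = θ k⁻¹ := by
    rw [show (j * k * j⁻¹)⁻¹ = j * k⁻¹ * j⁻¹ by group]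
    exact hθ _ _
  rw [mul_smul_comm, smul_mul_assoc, ← gen_mul, ← gen_mul]
  simp only [MulEquiv.toEquiv_eq_coe, EquivLike.coe_coe, MulAut.conj_apply]
  rw [hcf, show j * k * j⁻¹ * j = j * k by group]

theorem isBlock_blockOf {θ : K → ℂ} (hθ : IsIrrCharacter K θ) : IsBlock (blockOf θ) := by
  classical
  obtain ⟨n, σ, hσ, hσθ⟩ := hθ
  subst hσθ
  haveI := hσ
  have hθ := Chars.isIrrCharacter_character σ
  refine ⟨?_, blockOf_comm (Chars.isClassFunction_character σ), ?_, ?_⟩
  · refine sub_eq_zero.1 (eq_zero_of_forall_irr fun m τ hτ => ?_)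
    rw [map_sub, map_mul, asAlgebraHom_blockOf hθ]
    split_ifs <;> simp
  · intro z hz hze
    obtain ⟨c, hc⟩ := schur_asAlgebraHom σ hz
    refine ⟨c, sub_eq_zero.1 (eq_zero_of_forall_irr fun m τ hτ => ?_)⟩
    rw [map_sub, map_smul, asAlgebraHom_blockOf hθ]
    split_ifs with h
    · obtain ⟨d, hd⟩ := schur_asAlgebraHom τ hz
      -- equal characters give equal central scalars
      have e1 : LinearMap.trace ℂ _ (σ.asAlgebraHom z) = LinearMap.trace ℂ _ (τ.asAlgebraHom z) := by
        rw [← ev_character, ← ev_character, h]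
      have hdim : (finrank ℂ (Fin n → ℂ) : ℂ) = finrank ℂ (Fin m → ℂ) := by
        rw [← Representation.char_one σ, ← Representation.char_one τ, h]
      have hd0 : (finrank ℂ (Fin m → ℂ) : ℂ) ≠ 0 :=
        Nat.cast_ne_zero.2 (Chars.finrank_pos_of_isIrreducible τ).ne'
      rw [hc, hd, map_smul, map_smul, LinearMap.trace_one, LinearMap.trace_one, hdim, smul_eq_mul,
        smul_eq_mul] at e1
      rw [hd, mul_right_cancel₀ hd0 e1, sub_self]
    · rw [← hze, map_mul, asAlgebraHom_blockOf hθ, if_neg h, mul_zero, smul_zero, sub_zero]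
  · intro h0
    have h01 := asAlgebraHom_blockOf hθ σ
    rw [if_pos rfl, h0, map_zero] at h01
    haveI := Chars.nontrivial_of_isIrreducible σ
    exact (zero_ne_one (α := Module.End ℂ (Fin n → ℂ))) h01

theorem IsBlock.exists_eq_blockOf {e : GA K} (he : IsBlock e) :
    ∃ θ : IrrCharacter K, e = blockOf (θ : K → ℂ) := by
  classical
  haveI := Chars.irrFintype K
  by_contra h
  push Not at h
  refine he.ne_zero ?_
  rw [← mul_one e, ← sum_blockOf, Finset.mul_sum]
  exact Finset.sum_eq_zero fun θ _ => he.mul_eq_zero (isBlock_blockOf θ.2) (h θ)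

/-- The set of all blocks. -/
theorem finite_blocks : {e : GA K | IsBlock e}.Finite := by
  haveI := Chars.irrFintype K
  refine (Set.finite_range fun θ : IrrCharacter K => blockOf (θ : K → ℂ)).subset fun e he => ?_
  obtain ⟨θ, hθ⟩ := IsBlock.exists_eq_blockOf he
  exact ⟨θ, hθ.symm⟩

/-- The blocks as a finset. -/
noncomputable def blocks (K : Type*) [Group K] [Fintype K] : Finset (GA K) :=
  (finite_blocks (K := K)).toFinset

@[simp] theorem mem_blocks {e : GA K} : e ∈ blocks K ↔ IsBlock e :=
  Set.Finite.mem_toFinset _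

theorem sum_blocks : ∑ e ∈ blocks K, e = 1 := by
  classical
  haveI := Chars.irrFintype K
  rw [← sum_blockOf (K := K)]
  refine (Finset.sum_nbij (fun θ : IrrCharacter K => blockOf (θ : K → ℂ))
    (fun θ _ => mem_blocks.2 (isBlock_blockOf θ.2)) ?_ ?_ fun θ _ => rfl).symm
  · intro θ _ θ' _ heq
    obtain ⟨n, σ, hσ, hσθ⟩ := θ.2
    haveI := hσ
    have h1 := asAlgebraHom_blockOf θ.2 σ
    have h2 := asAlgebraHom_blockOf θ'.2 σ
    simp only at heq
    rw [heq, h2, if_pos hσθ] at h1
    by_contra hne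
    rw [if_neg fun h => hne (Subtype.ext (hσθ.symm.trans h))] at h1
    haveI := Chars.nontrivial_of_isIrreducible σ
    exact zero_ne_one h1
  · intro e he
    obtain ⟨θ, hθ⟩ := (mem_blocks.1 he).exists_eq_blockOf
    exact ⟨θ, Finset.mem_univ _, hθ.symm⟩

/-- A block has a representation that is faithful on it and onto the endomorphisms. -/
theorem IsBlock.exists_rep {e : GA K} (he : IsBlock e) :
    ∃ (n : ℕ) (σ : Representation ℂ K (Fin n → ℂ)), σ.IsIrreducible ∧ σ.asAlgebraHom e = 1 ∧
      (∀ y, σ.asAlgebraHom y = 0 → y * e = 0) ∧ Function.Surjective σ.asAlgebraHom := by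
  classical
  obtain ⟨θ, rfl⟩ := he.exists_eq_blockOf
  obtain ⟨n, σ, hσ, hσθ⟩ := θ.2
  haveI := hσ
  refine ⟨n, σ, hσ, by rw [asAlgebraHom_blockOf θ.2, if_pos hσθ], fun y hy => ?_, ?_⟩
  · refine eq_zero_of_forall_irr fun m τ hτ => ?_
    rw [map_mul, asAlgebraHom_blockOf θ.2]
    split_ifs with h
    · obtain ⟨f⟩ := CharsMore.equiv_of_character_eq σ τ (hσθ.trans h.symm)
      have hinter : ∀ z : GA K, ∀ v, f.toLinearEquiv (σ.asAlgebraHom z v) =
          τ.asAlgebraHom z (f.toLinearEquiv v) := by
        intro z v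
        refine ext_gen (f := f.toLinearEquiv.toLinearMap.comp
          ((LinearMap.applyₗ v).comp σ.asAlgebraHom.toLinearMap))
          (g := (LinearMap.applyₗ (f.toLinearEquiv v)).comp τ.asAlgebraHom.toLinearMap) (fun k => ?_) z
        simp [asAlgebraHom_gen]
        exact f.toIntertwiningMap.isIntertwining σ τ k v
      refine LinearMap.ext fun w => ?_
      obtain ⟨v, rfl⟩ := f.toLinearEquiv.surjective w
      rw [mul_one, ← hinter, hy, LinearMap.zero_apply, map_zero, LinearMap.zero_apply]
    · rw [mul_zero]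
  · refine Modular.IsSimpleRep.asAlgebraHom_surjective ⟨?_, ?_⟩
    · exact Chars.nontrivial_of_isIrreducible σ
    · intro U hU
      exact ((Chars.isIrreducible_iff σ).1 hσ).2 U hU

end Blocks

section Line

variable {K K' : Type*} [Group K] [Group K'] [Fintype K]

/-- The graded line of a twist in a block. -/
def InLine (e : GA K) (a : K →* ℂˣ) (x : GA K) : Prop :=
  x * e = x ∧ ∀ k, gen k * x = (a k : ℂ) • (x * gen k)

variable {e : GA K} {a b : K →* ℂˣ} {x y : GA K}

theorem InLine.mul (_he : IsBlock e) (hx : InLine e a x) (hy : InLine e b y) :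
    InLine e (a * b) (x * y) := by
  refine ⟨by rw [mul_assoc, hy.1], fun k => ?_⟩
  rw [← mul_assoc, hx.2, smul_mul_assoc, mul_assoc, hy.2, mul_smul_comm, smul_smul, mul_assoc,
    MonoidHom.mul_apply, Units.val_mul]

theorem InLine.smul (hx : InLine e a x) (c : ℂ) : InLine e a (c • x) := by
  refine ⟨by rw [smul_mul_assoc, hx.1], fun k => ?_⟩
  rw [mul_smul_comm, hx.2, smul_mul_assoc, smul_comm]

theorem inLine_one (he : IsBlock e) : InLine e 1 e :=
  ⟨he.idem, fun k => by simp [(he.comm (gen k)).symm]⟩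

theorem InLine.pow (he : IsBlock e) (hx : InLine e a x) :
    ∀ n : ℕ, InLine e (a ^ n) (x ^ n * e) := by
  intro n
  induction n with
  | zero =>
    rw [show a ^ 0 = 1 from pow_zero a, pow_zero, one_mul]
    exact inLine_one he
  | succ n ih =>
    rw [show a ^ (n + 1) = a ^ n * a from pow_succ a n, pow_succ, mul_assoc, hx.1]
    have : x ^ n * e * x = x ^ n * x := by rw [mul_assoc, he.comm, hx.1]
    rw [← this]
    exact ih.mul he hx

theorem InLine.scalar (he : IsBlock e) (hx : InLine e 1 x) : ∃ c : ℂ, x = c • e :=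
  he.scalar x (fun y => (comm_of_gen (fun k => by simpa using hx.2 k) y).symm) hx.1

/-- If `x` in a line has inverse `y` in the block, twisting is conjugation. -/
theorem InLine.twist_eq (he : IsBlock e) (hx : InLine e a x) (hyx : y * x = e) (z : GA K) :
    twist a z * e = y * z * x := by
  refine ext_gen (f := (LinearMap.mulRight ℂ e).comp (twist a).toLinearMap)
    (g := (LinearMap.mulRight ℂ x).comp (LinearMap.mulLeft ℂ y)) (fun k => ?_) z
  simp only [LinearMap.comp_apply, AlgHom.toLinearMap_apply, LinearMap.mulRight_apply,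
    LinearMap.mulLeft_apply, twist_gen, smul_mul_assoc]
  rw [mul_assoc, hx.2, mul_smul_comm, ← mul_assoc, hyx, he.comm]

/-- The class sum of an element. -/
theorem exists_line (he : IsBlock e) (ha : twist a e = e) :
    ∃ x y, InLine e a x ∧ y * x = e ∧ x * y = e := by
  classical
  obtain ⟨n, σ, hσ, hσe, hinj, hsurj⟩ := he.exists_rep
  haveI := hσ
  -- the character is invariant under the twist
  have hθ : ∀ k, (a k : ℂ) * σ.character k = σ.character k := by
    intro k
    set z : GA K := ∑ j : K, gen (j * k * j⁻¹) with hz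
    have hzc : ∀ w, z * w = w * z := fun w => (comm_of_gen (fun i => by
      rw [hz, Finset.mul_sum, Finset.sum_mul]
      refine Fintype.sum_equiv (Equiv.mulLeft i) _ _ fun j => ?_
      rw [← gen_mul, ← gen_mul]
      congr 1
      simp [mul_assoc]) w).symm
    obtain ⟨c, hc⟩ := he.scalar (z * e) (fun w => by
      rw [mul_assoc, he.comm, ← mul_assoc, hzc, mul_assoc]) (by rw [mul_assoc, he.idem])
    have htz : twist a z = (a k : ℂ) • z := by
      rw [hz, map_sum, Finset.smul_sum]
      refine Finset.sum_congr rfl fun j _ => ?_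
      rw [twist_gen]
      congr 1
      simp
    have h1 := congrArg (twist a) hc
    rw [map_mul, map_smul, ha, htz, smul_mul_assoc, hc, smul_smul] at h1
    have hcc : (a k : ℂ) * c = c := smul_left_injective ℂ he.ne_zero h1
    have h2 : LinearMap.trace ℂ _ (σ.asAlgebraHom z) = c * (finrank ℂ (Fin n → ℂ) : ℂ) := by
      rw [← mul_one (σ.asAlgebraHom z), ← hσe, ← map_mul, hc, map_smul, hσe, map_smul,
        LinearMap.trace_one, smul_eq_mul]
    rw [← ev_character, hz, map_sum] at h2
    simp only [ev_gen, Representation.char_conj, Finset.sum_const, Finset.card_univ,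
      nsmul_eq_mul] at h2
    have hN : (Fintype.card K : ℂ) ≠ 0 := Nat.cast_ne_zero.2 Fintype.card_ne_zero
    refine mul_left_cancel₀ hN ?_
    rw [mul_left_comm, h2, ← mul_assoc, hcc]
  -- an intertwiner
  let σ' : Representation ℂ K (Fin n → ℂ) :=
    { toFun := fun k => (a k : ℂ) • σ k
      map_one' := by simp
      map_mul' := fun i j => by rw [map_mul, map_mul, Units.val_mul, smul_mul_smul_comm] }
  obtain ⟨f⟩ := CharsMore.equiv_of_character_eq σ σ' (funext fun k => by
    show LinearMap.trace ℂ _ (σ k) = LinearMap.trace ℂ _ ((a k : ℂ) • σ k)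
    rw [map_smul, smul_eq_mul]
    exact (hθ k).symm)
  obtain ⟨x0, hx0⟩ := hsurj (f.toLinearEquiv.symm.toLinearMap)
  obtain ⟨y0, hy0⟩ := hsurj (f.toLinearEquiv.toLinearMap)
  have hT : ∀ k, σ k * f.toLinearEquiv.symm.toLinearMap =
      (a k : ℂ) • (f.toLinearEquiv.symm.toLinearMap * σ k) := by
    intro k
    refine LinearMap.ext fun w => f.toLinearEquiv.injective ?_
    have := f.toIntertwiningMap.isIntertwining σ σ' k (f.toLinearEquiv.symm w)
    simp only [Module.End.mul_apply, LinearMap.smul_apply, LinearEquiv.coe_coe, map_smul,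
      LinearEquiv.apply_symm_apply]
    refine this.trans ?_
    show (a k : ℂ) • σ k (f.toLinearEquiv (f.toLinearEquiv.symm w)) = _
    rw [LinearEquiv.apply_symm_apply]
  have key : ∀ w v : GA K, σ.asAlgebraHom w = σ.asAlgebraHom v → w * e = v * e := by
    intro w v h
    rw [← sub_eq_zero, ← sub_mul]
    exact hinj _ (by rw [map_sub, h, sub_self])
  refine ⟨x0 * e, y0 * e, ⟨by rw [mul_assoc, he.idem], fun k => ?_⟩, ?_, ?_⟩
  · have h := key (gen k * x0) ((a k : ℂ) • (x0 * gen k)) (by
      rw [map_mul, map_smul, map_mul, hx0]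
      simp only [asAlgebraHom_gen]
      exact hT k)
    rw [← mul_assoc, h, smul_mul_assoc, mul_assoc, mul_assoc, ← he.comm]
  · have h := key (y0 * x0) 1 (by
      rw [map_mul, hx0, hy0, map_one]
      exact LinearMap.ext fun w => f.toLinearEquiv.apply_symm_apply w)
    rw [mul_assoc, ← mul_assoc e, he.comm x0, mul_assoc x0, he.idem, ← mul_assoc, h, one_mul]
  · have h := key (x0 * y0) 1 (by
      rw [map_mul, hx0, hy0, map_one]
      exact LinearMap.ext fun w => f.toLinearEquiv.symm_apply_apply w)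
    rw [mul_assoc, ← mul_assoc e, he.comm y0, mul_assoc y0, he.idem, ← mul_assoc, h, one_mul]

end Line

end CfsgLib.CharsMore.Parity
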