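import Cfsg.Agent.Lib.CharsMore.Parity.Odd
import Cfsg.Agent.Lib.Chars.Degree
import Cfsg.Agent.Lib.Chars.Induction

/-!
# The correspondence between invariant irreducible characters of `G` and `H`
-/

set_option autoImplicit false
set_option linter.unusedSectionVars false
set_option linter.style.haveILetI false

namespace CfsgLib.CharsMore.Parity

open Cfsg Module
open scoped ComplexConjugate

theorem irr_degree_odd {H : Type*} [Group H] [Fintype H] (hH : Odd (Nat.card H)) {ψ : H → ℂ}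
    (hψ : IsIrrCharacter H ψ) : ∃ d : ℕ, Odd d ∧ ψ 1 = (d : ℂ) := by
  obtain ⟨n, σ, hσ, rfl⟩ := hψ
  haveI := hσ
  refine ⟨finrank ℂ (Fin n → ℂ), Odd.of_dvd_nat hH ?_, Representation.char_one σ⟩
  exact (Chars.finrank_dvd_index_center σ).trans (Subgroup.index_dvd_card _)

theorem ev_sum_fun {G : Type*} [Group G] [Fintype G] {ι : Type*} (s : Finset ι) (c : ι → ℂ)
    (φ : ι → G → ℂ) (y : GA G) :
    ev (∑ i ∈ s, c i • φ i) y = ∑ i ∈ s, c i * ev (φ i) y := by
  simp only [ev, LinearMap.coe_mk, AddHom.coe_mk, Finset.sum_apply, Pi.smul_apply, smul_eq_mul,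
    Finset.mul_sum]
  rw [Finset.sum_comm]
  exact Finset.sum_congr rfl fun i _ => Finset.sum_congr rfl fun k _ => by ring

namespace Setup

variable {G K L C S : Type*} [Group G] [Fintype G] [Group K] [Fintype K] [Group L] [Fintype L]
  [Group C] [Fintype C] [Group S] [Fintype S]
variable (T : Setup G K L C S) [Fintype T.H]

theorem exists_sign {χ : G → ℂ} (hχ : IsIrrCharacter G χ) (hA : T.Adm χ) :
    ∃ ψ, IsIrrCharacter T.H ψ ∧ (T.f χ = ψ ∨ T.f χ = -ψ) := by
  rcases Chars.irr_or_neg_irr_of_norm_one (T.isGeneralized_f hχ)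
    ((T.inner_f hχ hχ hA).trans (Chars.inner_irr_self ⟨χ, hχ⟩)) with h | h
  · exact ⟨_, h, Or.inl rfl⟩
  · exact ⟨_, h, Or.inr (neg_neg _).symm⟩

theorem f_inner_cases {χ : G → ℂ} {ψ ψ' : T.H → ℂ} (hψ : IsIrrCharacter T.H ψ)
    (hψ' : IsIrrCharacter T.H ψ') (h : T.f χ = ψ ∨ T.f χ = -ψ) :
    (ψ = ψ' ∧ (classInner (T.f χ) ψ' = 1 ∨ classInner (T.f χ) ψ' = -1)) ∨
      (ψ ≠ ψ' ∧ classInner (T.f χ) ψ' = 0) := by
  by_cases he : ψ = ψ'
  · subst he
    refine Or.inl ⟨rfl, ?_⟩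
    rcases h with h | h
    · exact Or.inl (by rw [h]; exact Chars.inner_irr_self ⟨ψ, hψ⟩)
    · exact Or.inr (by rw [h, Chars.inner_neg_left]; exact congrArg Neg.neg (Chars.inner_irr_self ⟨ψ, hψ⟩))
  · have h0 : classInner ψ ψ' = 0 :=
      Chars.inner_irr_ne (χ := ⟨ψ, hψ⟩) (ψ := ⟨ψ', hψ'⟩) fun h => he (congrArg Subtype.val h)
    refine Or.inr ⟨he, ?_⟩
    rcases h with h | h
    · rw [h, h0]
    · rw [h, Chars.inner_neg_left, h0, neg_zero]

/-- Odd multiplicity characterises the parity map. -/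
theorem odd_iff {χ : G → ℂ} (hχ : IsIrrCharacter G χ) (hA : T.Adm χ) {ψ ψ' : T.H → ℂ}
    (hψ : IsIrrCharacter T.H ψ) (h : T.f χ = ψ ∨ T.f χ = -ψ) (hψ' : IsIrrCharacter T.H ψ')
    (hinv : T.InvH ψ') :
    ∃ m : ℕ, classInner (fun h : T.H => χ h) ψ' = (m : ℂ) ∧ (Odd m ↔ ψ = ψ') := by
  obtain ⟨a, b, hab, hf⟩ := T.parity hχ hA hψ' hinv
  refine ⟨a + b, hab, ?_⟩
  rcases T.f_inner_cases hψ hψ' h with ⟨he, hc | hc⟩ | ⟨he, hc⟩
  · rw [hf, sub_eq_iff_eq_add] at hc
    have : a = 1 + b := by exact_mod_cast hc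
    exact iff_of_true ⟨b, by omega⟩ he
  · rw [hf, sub_eq_iff_eq_add, neg_add_eq_sub, eq_sub_iff_add_eq] at hc
    have : a + 1 = b := by exact_mod_cast hc
    exact iff_of_true ⟨a, by omega⟩ he
  · rw [hf, sub_eq_zero] at hc
    have : a = b := by exact_mod_cast hc
    exact iff_of_false (fun h => (Nat.not_even_iff_odd.2 h) ⟨a, by omega⟩) he

theorem mapA_θ (s : S) (y : GA K) :
    mapA (T.θ s).toMonoidHom (mapA T.ι y) = mapA T.ι (mapA (T.B.d.φ s).toMonoidHom y) :=
  algHom_ext_gen (f := (mapA (T.θ s).toMonoidHom).comp (mapA T.ι))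
    (g := (mapA T.ι).comp (mapA (T.B.d.φ s).toMonoidHom)) (fun k => by simp [T.hφ]) y

theorem ev_comp_θ (χ : G → ℂ) (s : S) (y : GA G) :
    ev (fun g => χ (T.θ s g)) y = ev χ (mapA (T.θ s).toMonoidHom y) :=
  ext_gen (f := ev fun g => χ (T.θ s g)) (g := (ev χ).comp (mapA (T.θ s).toMonoidHom).toLinearMap)
    (fun g => by simp) y

theorem f_inv_eq {χ : G → ℂ} (hinv : T.InvG χ) (s : S) (h : T.H) :
    T.f χ (T.θH s h) = T.f χ h := by
  have h1 : (fun g => χ (T.θ s g)) = χ := funext (hinv s)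
  have h2 : mapA (T.θ s).toMonoidHom (gen (h : G) * T.Pi) = gen (T.θ s h) * T.Pi := by
    rw [map_mul, mapA_gen, Pi, T.mapA_θ, T.pi_fix]
    rfl
  show ev χ (gen (T.θ s h) * T.Pi) = ev χ (gen (h : G) * T.Pi)
  rw [← h2, ← T.ev_comp_θ, h1]

/-- The forward direction. -/
theorem forward {χ : G → ℂ} (hχ : IsIrrCharacter G χ) (hinv : T.InvG χ) :
    ∃ ψ, IsIrrCharacter T.H ψ ∧ T.InvH ψ ∧ (T.f χ = ψ ∨ T.f χ = -ψ) := by
  obtain ⟨ψ, hψ, h⟩ := T.exists_sign hχ (T.adm_of_inv hχ hinv)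
  refine ⟨ψ, hψ, fun s x => ?_, h⟩
  have hf := T.f_inv_eq hinv s x
  rcases h with h | h
  · rwa [h] at hf
  · rw [h, Pi.neg_apply, Pi.neg_apply, neg_inj] at hf
    exact hf

/-- Two admissible characters with odd multiplicity over the same invariant character are equal. -/
theorem eq_of_odd {χ χ' : G → ℂ} (hχ : IsIrrCharacter G χ) (hχ' : IsIrrCharacter G χ')
    (hA : T.Adm χ) (hA' : T.Adm χ') {ψ : T.H → ℂ} (hψ : IsIrrCharacter T.H ψ) (hinv : T.InvH ψ)
    {m m' : ℕ} (hm : classInner (fun h : T.H => χ h) ψ = (m : ℂ)) (hodd : Odd m)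
    (hm' : classInner (fun h : T.H => χ' h) ψ = (m' : ℂ)) (hodd' : Odd m') : χ = χ' := by
  obtain ⟨ψ1, hψ1, h1⟩ := T.exists_sign hχ hA
  obtain ⟨ψ2, hψ2, h2⟩ := T.exists_sign hχ' hA'
  obtain ⟨n1, hn1, hiff1⟩ := T.odd_iff hχ hA hψ1 h1 hψ hinv
  obtain ⟨n2, hn2, hiff2⟩ := T.odd_iff hχ' hA' hψ2 h2 hψ hinv
  have e1 : ψ1 = ψ := hiff1.1 (by rwa [show n1 = m from by exact_mod_cast hn1.symm.trans hm])
  have e2 : ψ2 = ψ := hiff2.1 (by rwa [show n2 = m' from by exact_mod_cast hn2.symm.trans hm'])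
  subst e1
  rw [e2] at h2
  by_contra hne
  have h0 : classInner (T.f χ) (T.f χ') = 0 := (T.inner_f hχ hχ' hA).trans
    (Chars.inner_irr_ne (χ := ⟨χ, hχ⟩) (ψ := ⟨χ', hχ'⟩) fun h => hne (congrArg Subtype.val h))
  have h11 : classInner ψ1 ψ1 = 1 := Chars.inner_irr_self ⟨ψ1, hψ⟩
  rcases h1 with h1 | h1 <;> rcases h2 with h2 | h2 <;>
    simp [h1, h2, Chars.inner_neg_left, Chars.inner_neg_right, h11] at h0

theorem index_eq : (Fintype.card G : ℂ) * Fintype.card L = Fintype.card T.H * Fintype.card K := by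
  classical
  have s1 := sum_prod_set T.iL T.jH T.hgenH (fun h : T.H => if h = 1 then (1 : ℂ) else 0)
  have s2 := sum_prod_set T.ι T.j T.hgen (fun g : G => if g = 1 then (1 : ℂ) else 0)
  simp only [Finset.sum_ite_eq', Finset.mem_univ, if_true, mul_one] at s1 s2
  have hN : (∑ x : L, ∑ y : C, if T.iL x * T.jH y = 1 then (1 : ℂ) else 0) =
      ∑ x : K, ∑ y : C, if T.ι x * T.j y = 1 then (1 : ℂ) else 0 := by
    refine Fintype.sum_of_injective T.B.κ T.B.κ_inj _ _ (fun k hk => ?_) fun l => ?_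
    · refine Finset.sum_eq_zero fun c _ => if_neg fun h => hk ?_
      refine T.inter k ⟨c⁻¹, ?_⟩
      rw [map_inv]
      exact (eq_inv_of_mul_eq_one_left h).symm
    · refine Finset.sum_congr rfl fun c _ => ?_
      simp only [← Subtype.coe_inj (a := T.iL l * T.jH c), Subgroup.coe_mul, Subgroup.coe_one, coe_iL,
        coe_jH]
  rw [hN] at s1
  set N := ∑ x : K, ∑ y : C, if T.ι x * T.j y = 1 then (1 : ℂ) else 0
  have hN0 : N ≠ 0 := by
    intro h0
    rw [h0, mul_zero] at s2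
    push_cast at s2
    exact (mul_ne_zero (Nat.cast_ne_zero.2 Fintype.card_ne_zero)
      (Nat.cast_ne_zero.2 Fintype.card_ne_zero) : (Fintype.card K : ℂ) * Fintype.card C ≠ 0) s2.symm
  refine mul_left_cancel₀ hN0 ?_
  push_cast at s1 s2
  linear_combination (Fintype.card L : ℂ) * s2 - (Fintype.card K : ℂ) * s1

theorem card_G_eq : (Fintype.card G : ℂ) = T.B.d.DF.card * Fintype.card T.H := by
  have hL : (Fintype.card L : ℂ) ≠ 0 := Nat.cast_ne_zero.2 Fintype.card_ne_zero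
  refine mul_right_cancel₀ hL ?_
  rw [T.index_eq, ← T.card_DF]
  ring

theorem stabF_card_odd (e : GA K) : Odd (T.B.d.stabF e).card := by
  have hc : (T.B.d.stabF e).card = Nat.card (T.B.d.stab e) := by
    rw [Data.stabF, ← Set.ncard_eq_toFinset_card]
    exact (Nat.card_coe_set_eq _).symm
  rw [hc]
  by_contra hev
  rw [Nat.not_odd_iff_even, even_iff_two_dvd] at hev
  haveI : Fact (Nat.Prime 2) := ⟨Nat.prime_two⟩
  obtain ⟨x, hx⟩ := exists_prime_orderOf_dvd_card' (G := T.B.d.stab e) 2 hev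
  have hpow : x ^ Nat.card K = 1 := Subtype.ext (by
    rw [Subgroup.coe_pow]
    exact lin_pow_card (x : K →* ℂˣ))
  have h2 := orderOf_dvd_of_pow_eq_one hpow
  rw [hx] at h2
  exact (Nat.not_even_iff_odd.2 T.B.d.odd) (even_iff_two_dvd.2 h2)

/-- Restriction of a central element of `K` to a character of `H`. -/
theorem ev_indFun {y : GA K} (hy : ∀ z : GA G, mapA T.ι y * z = z * mapA T.ι y) (ψ : T.H → ℂ) :
    ev (indFun T.H ψ) (mapA T.ι y) = (T.B.d.DF.card : ℂ) * ev ψ (mapA T.iL (T.B.res y)) := by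
  classical
  have hext : ev (extendByZero T.H ψ) (mapA T.ι y) = ev ψ (mapA T.iL (T.B.res y)) := by
    conv_lhs => rw [eq_sum y]
    rw [Base.res, map_sum, map_sum, map_sum, map_sum]
    refine (Fintype.sum_of_injective T.B.κ T.B.κ_inj _ _ (fun k hk => ?_) fun l => ?_).symm
    · rw [map_smul, map_smul, mapA_gen, ev_gen, Chars.extendByZero_of_not_mem, smul_zero]
      intro hmem
      obtain ⟨l, c, hlc⟩ := (T.memH _).1 hmem
      have : (T.B.κ l)⁻¹ * k ∈ Set.range T.B.κ := T.inter _ ⟨c, by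
        rw [map_mul, map_inv, hlc, inv_mul_cancel_left]⟩
      obtain ⟨l', hl'⟩ := this
      exact hk ⟨l * l', by rw [map_mul, hl', mul_inv_cancel_left]⟩
    · rw [map_smul, map_smul, map_smul, map_smul, mapA_gen, mapA_gen, ev_gen, ev_gen, ← coe_iL,
        Chars.extendByZero_coe]
  have hsum : ∀ x : G, (∑ g : G, (mapA T.ι y).coeff g * extendByZero T.H ψ (x⁻¹ * g * x)) =
      ev (extendByZero T.H ψ) (mapA T.ι y) := by
    intro x
    have h2 : gen x⁻¹ * mapA T.ι y * gen x = mapA T.ι y := by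
      rw [mul_assoc, hy, ← mul_assoc, ← gen_mul, inv_mul_cancel, gen_one, one_mul]
    conv_rhs => rw [← h2, eq_sum (mapA T.ι y), Finset.mul_sum, Finset.sum_mul, map_sum]
    refine Finset.sum_congr rfl fun g _ => ?_
    rw [mul_smul_comm, smul_mul_assoc, map_smul, ← gen_mul, ← gen_mul, ev_gen, smul_eq_mul]
  calc ev (indFun T.H ψ) (mapA T.ι y)
      = ∑ g : G, (mapA T.ι y).coeff g *
          ((Nat.card T.H : ℂ)⁻¹ * ∑ x : G, extendByZero T.H ψ (x⁻¹ * g * x)) := rfl
    _ = (Nat.card T.H : ℂ)⁻¹ * ∑ x : G, ∑ g : G,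
          (mapA T.ι y).coeff g * extendByZero T.H ψ (x⁻¹ * g * x) := by
        simp only [Finset.mul_sum]
        rw [Finset.sum_comm]
        exact Finset.sum_congr rfl fun x _ => Finset.sum_congr rfl fun g _ => by ring
    _ = _ := by
        rw [Finset.sum_congr rfl fun x _ => hsum x, Finset.sum_const, Finset.card_univ, nsmul_eq_mul,
          hext, T.card_G_eq, Nat.card_eq_fintype_card]
        field_simp

/-- The surjectivity. -/
theorem exists_above {ψ : T.H → ℂ} (hψ : IsIrrCharacter T.H ψ) (hinv : T.InvH ψ) :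
    ∃ χ, IsIrrCharacter G χ ∧ T.InvG χ ∧
      ∃ m : ℕ, classInner (fun h : T.H => χ h) ψ = (m : ℂ) ∧ Odd m := by
  classical
  obtain ⟨n, σ, hσ, hσψ⟩ := hψ
  haveI := hσ
  have hψ : IsIrrCharacter T.H ψ := ⟨n, σ, hσ, hσψ⟩
  -- a fixed block of the kernel acting on `ψ`
  obtain ⟨f0, hf0, hf0σ⟩ : ∃ f0, T.B.Fixed f0 ∧ σ.asAlgebraHom (mapA T.iL f0) ≠ 0 := by
    by_contra hcon
    have h1 := asAlgebraHom_sum_fixedBlocks T.iL T.jH T.cl T.B.ψ T.θH T.hclH T.hgenH T.hψH T.cl_comm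
      T.copC σ (hσψ ▸ hinv)
    rw [map_sum, map_sum, Finset.sum_eq_zero] at h1
    · haveI := Chars.nontrivial_of_isIrreducible σ
      exact zero_ne_one h1
    · intro f hf
      by_contra h
      exact hcon ⟨f, ⟨(mem_fixedBlocks.1 hf).1, (mem_fixedBlocks.1 hf).2⟩, h⟩
  obtain ⟨e0, he0, hne0⟩ := Base.exists_fixed hf0
  -- its orbit
  set O : Finset (GA K) := Finset.univ.image fun c => mapA (T.cj c).toMonoidHom e0 with hO
  have hOmem : ∀ c, ∀ e ∈ O, mapA (T.cj c).toMonoidHom e ∈ O := by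
    intro c e he
    obtain ⟨c', -, rfl⟩ := Finset.mem_image.1 he
    refine Finset.mem_image.2 ⟨c * c', Finset.mem_univ _, ?_⟩
    rw [map_mul, mapA_mapA]; rfl
  have hOfix : ∀ e ∈ O, T.B.d.Fixed e := by
    intro e he
    obtain ⟨c, -, rfl⟩ := Finset.mem_image.1 he
    exact he0.map (T.compat c)
  have hOcard : ∀ e ∈ O, (T.B.d.stabF e).card = (T.B.d.stabF e0).card := by
    intro e he
    obtain ⟨c, -, rfl⟩ := Finset.mem_image.1 he
    exact Data.stabF_card_map (T.compat c)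
  have he0O : e0 ∈ O := Finset.mem_image.2 ⟨1, Finset.mem_univ _, by rw [map_one]; exact mapA_id e0⟩
  set EO := ∑ e ∈ O, e with hEO
  have hEcomm : ∀ x, EO * x = x * EO := fun x => by
    rw [hEO, Finset.sum_mul, Finset.mul_sum]
    exact Finset.sum_congr rfl fun e he => (hOfix e he).blk.comm x
  have hEfix : ∀ c, mapA (T.cj c).toMonoidHom EO = EO := fun c => by
    rw [hEO, map_sum]
    exact Finset.sum_bij' (fun e _ => mapA (T.cj c).toMonoidHom e)
      (fun e _ => mapA (T.cj c⁻¹).toMonoidHom e) (hOmem c) (hOmem c⁻¹)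
      (fun e _ => T.mapA_cj_inv_self c e) (fun e _ => T.mapA_cj_self_inv c e) fun e _ => rfl
  have hEcen := mapA_central T.ι T.j T.cj T.hcj T.hgen hEcomm hEfix
  have hEidem : EO * EO = EO := by
    rw [hEO, Finset.sum_mul]
    refine Finset.sum_congr rfl fun e he => ?_
    rw [Finset.mul_sum, Finset.sum_eq_single e]
    · exact (hOfix e he).blk.idem
    · exact fun e' he' hne => (hOfix e he).blk.mul_eq_zero (hOfix e' he').blk hne.symm
    · exact fun h => absurd he h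
  have hTE : (∑ e ∈ T.Th, e) * EO = EO := by
    rw [hEO, Finset.mul_sum]
    refine Finset.sum_congr rfl fun e he => ?_
    rw [Finset.sum_mul, Finset.sum_eq_single e]
    · exact (hOfix e he).blk.idem
    · exact fun e' he' hne => (T.mem_Th.1 he').blk.mul_eq_zero (hOfix e he).blk hne
    · exact fun h => absurd (T.mem_Th.2 (hOfix e he)) h
  -- the value of the induced character at the orbit idempotent
  set Y := (T.B.d.DF.card : ℂ) • T.B.res EO with hY
  have hκY : mapA T.B.κ Y = ∑ ν ∈ T.B.d.DF, twist ν EO := by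
    rw [hY, map_smul, Base.mapA_res]
  have hinj := mapA_injective_of_injective T.B.κ T.B.κ_inj
  set N0 := (T.B.d.stabF e0).card with hN0
  have hYf : Y * f0 = (N0 : ℂ) • f0 := by
    apply hinj
    rw [map_mul, hκY, map_smul, hEO, Finset.sum_congr rfl fun ν _ => map_sum (twist ν) _ _,
      Finset.sum_comm, Finset.sum_mul, Finset.sum_eq_single e0]
    · have h := Base.orb_smul_block (B := T.B) he0.blk hf0.blk hne0
      rw [Data.orb, smul_mul_assoc] at h
      conv_rhs => rw [← h, smul_smul, hN0, mul_inv_cancel₀ Data.stabF_card_ne_zero, one_smul]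
    · intro e he hne
      rw [Finset.sum_mul]
      refine Finset.sum_eq_zero fun ν hν => ?_
      by_contra h
      rw [Data.mem_DF] at hν
      refine hne ((Base.fixed_unique hf0.blk he0 (hOfix e he) hne0 fun h0 => h ?_).symm)
      rw [((hOfix e he).blk.twist ν).comm, ← T.B.twist_mapA hν f0, ← map_mul, h0, map_zero]
    · exact fun h => absurd he0O h
  have hYcen : ∀ x, Y * x = x * Y := by
    intro x
    refine (comm_of_gen (fun l => hinj ?_) x).symm
    rw [map_mul, map_mul, mapA_gen, hκY, Finset.mul_sum, Finset.sum_mul]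
    refine Finset.sum_congr rfl fun ν hν => ?_
    rw [← mapA_gen, ← T.B.twist_mapA (Data.mem_DF.1 hν) (gen l), ← map_mul, ← map_mul, hEcomm]
  have hYfix : ∀ c, mapA (T.cl c).toMonoidHom Y = Y := by
    intro c
    apply hinj
    have h1 : mapA T.B.κ (mapA (T.cl c).toMonoidHom Y) =
        mapA (T.cj c).toMonoidHom (mapA T.B.κ Y) :=
      algHom_ext_gen (f := (mapA T.B.κ).comp (mapA (T.cl c).toMonoidHom))
        (g := (mapA (T.cj c).toMonoidHom).comp (mapA T.B.κ)) (fun l => by simp [T.hcl]) Y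
    rw [h1, hκY, map_sum]
    refine Finset.sum_bij' (fun ν _ => act (T.cj c) ν) (fun ν _ => act (T.cj c).symm ν) ?_ ?_ ?_ ?_ ?_
    · exact fun ν hν => Data.mem_DF.2 ((T.compat c).mem ν (Data.mem_DF.1 hν))
    · exact fun ν hν => Data.mem_DF.2 ((T.compat c).mem' ν (Data.mem_DF.1 hν))
    · exact fun ν _ => act_symm_self _ ν
    · exact fun ν _ => act_self_symm _ ν
    · intro ν _
      rw [mapA_twist, hEfix]
      rfl
  obtain ⟨a, ha⟩ := schur_asAlgebraHom σ (mapA_central T.iL T.jH T.cl T.hclH T.hgenH hYcen hYfix)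
  have haN : a = (N0 : ℂ) := by
    refine smul_left_injective ℂ hf0σ ?_
    simp only
    calc a • σ.asAlgebraHom (mapA T.iL f0)
        = σ.asAlgebraHom (mapA T.iL Y) * σ.asAlgebraHom (mapA T.iL f0) := by
          rw [ha, smul_mul_assoc, one_mul]
      _ = (N0 : ℂ) • σ.asAlgebraHom (mapA T.iL f0) := by
          rw [← map_mul, ← map_mul, hYf, map_smul, map_smul]
  obtain ⟨d, hdodd, hd⟩ := irr_degree_odd (T.oddG.of_dvd_nat (Subgroup.card_subgroup_dvd_card T.H))
    hψ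
  have hval : ev (indFun T.H ψ) (mapA T.ι EO) = ((N0 * d : ℕ) : ℂ) := by
    rw [T.ev_indFun hEcen, ← smul_eq_mul, ← map_smul, ← map_smul, ← hY, ← hσψ, ev_character, ha,
      map_smul, haN, smul_eq_mul, ← map_one σ, Nat.cast_mul, ← hd, ← hσψ]
    rfl
  -- some constituent has odd multiplicity
  haveI := Chars.irrFintype G
  have hmult : ∀ χ : IrrCharacter G, ∃ m : ℕ, classInner (fun h : T.H => (χ : G → ℂ) h) ψ = (m : ℂ) ∧
      classInner (indFun T.H ψ) (χ : G → ℂ) = (m : ℂ) := by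
    intro χ
    obtain ⟨m, hm⟩ := Chars.inner_irr_right_nat
      (Chars.isCharacter_restrict T.H (Chars.isCharacter_of_irr χ.2)) ⟨ψ, hψ⟩
    refine ⟨m, hm, ?_⟩
    rw [Chars.inner_indFun T.H ψ (Chars.isClassFunction_irr χ), ← Chars.inner_conj]
    exact (congrArg conj hm).trans (Complex.conj_natCast m)
  choose m hm hm' using hmult
  have hsc : ∀ χ : IrrCharacter G, ev (χ : G → ℂ) (mapA T.ι EO) = 0 ∨
      (T.Adm (χ : G → ℂ) ∧ ∃ k : ℕ, ev (χ : G → ℂ) (mapA T.ι EO) = (k : ℂ)) := by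
    intro χ
    obtain ⟨n', ρ, hρ, hρχ⟩ := χ.2
    haveI := hρ
    obtain ⟨r, hr⟩ := schur_asAlgebraHom ρ hEcen
    rw [← hρχ]
    by_cases h0 : r = 0
    · exact Or.inl (by rw [ev_character, hr, h0, zero_smul, map_zero])
    · refine Or.inr ⟨?_, finrank ℂ (Fin n' → ℂ), ?_⟩
      · refine T.adm_of_asAlgebraHom ρ ?_
        have h1 := congrArg (fun y => ρ.asAlgebraHom (mapA T.ι y)) hTE
        simp only [map_mul, hr, mul_smul_comm, mul_one] at h1
        exact smul_right_injective _ h0 h1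
      · have h2 := congrArg (fun y => ρ.asAlgebraHom (mapA T.ι y)) hEidem
        simp only [map_mul, hr, smul_mul_smul_comm, mul_one] at h2
        haveI := Chars.nontrivial_of_isIrreducible ρ
        have h3 : r * r = r := smul_left_injective ℂ (one_ne_zero (α := Module.End ℂ (Fin n' → ℂ))) h2
        rw [ev_character, hr, (mul_eq_left₀ h0).1 h3, one_smul, LinearMap.trace_one]
  obtain ⟨χ, hAχ, hoddm⟩ : ∃ χ : IrrCharacter G, T.Adm (χ : G → ℂ) ∧ Odd (m χ) := by
    by_contra hcon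
    have hev : ∀ χ : IrrCharacter G, ∃ q : ℕ,
        classInner (indFun T.H ψ) (χ : G → ℂ) * ev (χ : G → ℂ) (mapA T.ι EO) = ((2 * q : ℕ) : ℂ) := by
      intro χ
      rw [hm']
      rcases hsc χ with h | ⟨hA, k, hk⟩
      · exact ⟨0, by rw [h, mul_zero, mul_zero, Nat.cast_zero]⟩
      · obtain ⟨q, hq⟩ : Even (m χ) := Nat.not_odd_iff_even.1 fun ho => hcon ⟨χ, hA, ho⟩
        refine ⟨q * k, ?_⟩
        rw [hk, hq, ← Nat.cast_mul]
        congr 1
        ring
    choose q hq using hev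
    have hexp := Chars.classFun_eq_sum (Chars.isClassFunction_indFun T.H ψ)
    have h2 : ((N0 * d : ℕ) : ℂ) = ((2 * ∑ χ : IrrCharacter G, q χ : ℕ) : ℂ) := by
      rw [← hval, hexp, ev_sum_fun, Finset.sum_congr rfl fun χ _ => hq χ, ← Nat.cast_sum,
        Finset.mul_sum]
    have h3 : Odd (N0 * d) := (T.stabF_card_odd e0).mul hdodd
    rw [Nat.cast_inj.1 h2] at h3
    exact (Nat.not_even_iff_odd.2 h3) (even_two_mul _)
  refine ⟨χ, χ.2, fun s g => ?_, m χ, hm χ, hoddm⟩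
  set χs : G → ℂ := fun g => (χ : G → ℂ) (T.θ s g) with hχs
  have hirr : IsIrrCharacter G χs :=
    Chars.isIrrCharacter_comp (T.θ s).toMonoidHom (T.θ s).surjective χ.2
  have hTfix : mapA (T.θ s).toMonoidHom (mapA T.ι (∑ e ∈ T.Th, e)) = mapA T.ι (∑ e ∈ T.Th, e) := by
    rw [T.mapA_θ, map_sum]
    congr 1
    exact Finset.sum_congr rfl fun e he => (T.mem_Th.1 he).fix s
  have hAs : T.Adm χs := fun y => by
    rw [hχs, T.ev_comp_θ, T.ev_comp_θ, map_mul, hTfix, hAχ]
  have hms : classInner (fun h : T.H => χs h) ψ = (m χ : ℂ) := by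
    rw [← hm χ, Chars.inner_def, Chars.inner_def]
    congr 1
    refine Fintype.sum_equiv (T.θH s).toEquiv _ _ fun h => ?_
    rw [MulEquiv.toEquiv_eq_coe, EquivLike.coe_coe, hinv s h]
    rfl
  exact congrFun (T.eq_of_odd hirr χ.2 hAs hAχ hψ hinv hms hoddm (hm χ) hoddm) g

end Setup

end CfsgLib.CharsMore.Parity
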