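import Cfsg.Agent.Lib.CharsMore.Parity.Sections

/-!
# The parity element of a fixed block

The normalised sum of the canonical section over the stabilizer commutes with nothing in the
stabilizer but squares to the averaging idempotent over the radical.
-/

set_option autoImplicit false
set_option linter.unusedSectionVars false
set_option linter.style.haveILetI false

namespace CfsgLib.CharsMore.Parity

open Module

section Helpers

variable {G : Type*} [CommGroup G] (a b : G)

theorem cg_shift : a * b * b * b⁻¹ * b⁻¹ = a := by group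

theorem cg_shift' : a * b⁻¹ * b⁻¹ * b * b = a := by group

theorem cg_shift'' : b⁻¹ * (a * b * b) = a * b := by
  rw [mul_comm, mul_inv_cancel_right]

theorem cg_one_mul : (1 : G) * a = a := one_mul a

theorem cg_inv_inv : a⁻¹⁻¹ = a := inv_inv a

end Helpers

namespace Data

variable {K S : Type*} [Group K] [Fintype K] [Group S] [Fintype S]
variable (d : Data K S)

/-- The characters as a finset. -/
noncomputable def DF : Finset (K →* ℂˣ) := (Set.toFinite (d.D : Set (K →* ℂˣ))).toFinset

/-- The stabilizer as a finset. -/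
noncomputable def stabF (e : GA K) : Finset (K →* ℂˣ) :=
  (Set.toFinite (d.stab e : Set (K →* ℂˣ))).toFinset

/-- The radical as a finset. -/
noncomputable def radF (e : GA K) : Finset (K →* ℂˣ) :=
  (Set.toFinite {x | d.InRad e x}).toFinset

variable {d} {e : GA K} {a b x : K →* ℂˣ}

@[simp] theorem mem_DF : a ∈ d.DF ↔ a ∈ d.D := Set.Finite.mem_toFinset _

@[simp] theorem mem_stabF : a ∈ d.stabF e ↔ a ∈ d.stab e := Set.Finite.mem_toFinset _

@[simp] theorem mem_radF : x ∈ d.radF e ↔ d.InRad e x := Set.Finite.mem_toFinset _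

theorem sum_DF_twist (y : GA K) (ha : a ∈ d.D) :
    ∑ ν ∈ d.DF, twist (a * ν) y = ∑ ν ∈ d.DF, twist ν y := by
  refine Finset.sum_bij' (fun ν _ => a * ν) (fun ν _ => a⁻¹ * ν) ?_ ?_ ?_ ?_ fun ν _ => rfl
  · exact fun ν hν => mem_DF.2 (d.D.mul_mem ha (mem_DF.1 hν))
  · exact fun ν hν => mem_DF.2 (d.D.mul_mem (d.D.inv_mem ha) (mem_DF.1 hν))
  · exact fun ν _ => inv_mul_cancel_left a ν
  · exact fun ν _ => mul_inv_cancel_left a ν

theorem InRad.one (he : IsBlock e) : d.InRad e 1 :=
  ⟨(d.stab e).one_mem, fun _ ha => bet_one_right he ha.2⟩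

theorem InRad.mul (he : IsBlock e) {x y : K →* ℂˣ} (hx : d.InRad e x) (hy : d.InRad e y) :
    d.InRad e (x * y) :=
  ⟨(d.stab e).mul_mem hx.1 hy.1, fun a ha => by
    rw [bet_mul_right he ha.2 hx.1.2 hy.1.2, hx.2 a ha, hy.2 a ha, one_mul]⟩

theorem InRad.inv (he : IsBlock e) (hx : d.InRad e x) : d.InRad e x⁻¹ :=
  ⟨(d.stab e).inv_mem hx.1, fun a ha => by
    have h := bet_mul_right he ha.2 hx.1.2 ((d.stab e).inv_mem hx.1).2
    rw [show x * x⁻¹ = 1 from mul_inv_cancel x, bet_one_right he ha.2, hx.2 a ha, one_mul] at h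
    exact h.symm⟩

theorem InRad.left (he : IsBlock e) (hx : d.InRad e x) (ha : a ∈ d.stab e) : bet e x a = 1 := by
  rw [bet_inv he ha.2 hx.1.2, hx.2 a ha, inv_one]

theorem bet_self_inv (he : IsBlock e) (ha : a ∈ d.stab e) : bet e a a⁻¹ = 1 := by
  have h := bet_mul_right he ha.2 ha.2 ((d.stab e).inv_mem ha).2
  rw [show a * a⁻¹ = 1 from mul_inv_cancel a, bet_one_right he ha.2, bet_self he ha.2,
    one_mul] at h
  exact h.symm

theorem u_inv_mul (he : d.Fixed e) (ha : a ∈ d.stab e) : d.u e a⁻¹ * d.u e a = e := by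
  rw [(isSection_u he).mul _ ((d.stab e).inv_mem ha) a ha,
    bet_inv he.blk ha.2 ((d.stab e).inv_mem ha).2, bet_self_inv he.blk ha, inv_one, one_smul,
    show a⁻¹ * a = 1 from inv_mul_cancel a, (isSection_u he).one]

theorem u_mul_inv (he : d.Fixed e) (ha : a ∈ d.stab e) : d.u e a * d.u e a⁻¹ = e := by
  rw [(isSection_u he).mul a ha _ ((d.stab e).inv_mem ha), bet_self_inv he.blk ha, one_smul,
    show a * a⁻¹ = 1 from mul_inv_cancel a, (isSection_u he).one]

theorem u_sq (he : d.Fixed e) (ha : a ∈ d.stab e) : d.u e a * d.u e a = d.u e (a * a) := by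
  rw [(isSection_u he).mul a ha a ha, bet_self he.blk ha.2, one_smul]

/-- Twisting inside the block is conjugation by the section. -/
theorem twist_mul_block (he : d.Fixed e) (ha : a ∈ d.stab e) (w : GA K) :
    twist a w * e = d.u e a⁻¹ * w * d.u e a :=
  ((isSection_u he).line a ha).twist_eq he.blk (u_inv_mul he ha) w

variable (d) in
/-- The averaging idempotent over the radical. -/
noncomputable def E (e : GA K) : GA K :=
  ((d.radF e).card : ℂ)⁻¹ • ∑ x ∈ d.radF e, d.u e x

variable (d) in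
/-- The normalising constant. -/
noncomputable def nrm (e : GA K) : ℂ :=
  ((Real.sqrt ((d.stabF e).card * (d.radF e).card) : ℝ) : ℂ)⁻¹

variable (d) in
/-- The parity element. -/
noncomputable def pie (e : GA K) : GA K := d.nrm e • ∑ a ∈ d.stabF e, d.u e a

theorem pie_mul_block (he : d.Fixed e) : d.pie e * e = d.pie e := by
  rw [pie, smul_mul_assoc, Finset.sum_mul]
  congr 1
  exact Finset.sum_congr rfl fun a ha => ((isSection_u he).line a (mem_stabF.1 ha)).1

theorem E_mul_block (he : d.Fixed e) : d.E e * e = d.E e := by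
  rw [E, smul_mul_assoc, Finset.sum_mul]
  congr 1
  exact Finset.sum_congr rfl fun a ha => ((isSection_u he).line a (mem_radF.1 ha).1).1

theorem pie_mul_u (he : d.Fixed e) (hb : b ∈ d.stab e) :
    d.pie e * d.u e b = d.u e b⁻¹ * d.pie e := by
  have hu := isSection_u he
  rw [pie, smul_mul_assoc, mul_smul_comm, Finset.sum_mul, Finset.mul_sum]
  congr 1
  have hbi := (d.stab e).inv_mem hb
  refine Finset.sum_bij' (fun a _ => a * b * b) (fun a _ => a * b⁻¹ * b⁻¹) ?_ ?_ ?_ ?_ ?_
  · exact fun a ha => mem_stabF.2 ((d.stab e).mul_mem ((d.stab e).mul_mem (mem_stabF.1 ha) hb) hb)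
  · exact fun a ha =>
      mem_stabF.2 ((d.stab e).mul_mem ((d.stab e).mul_mem (mem_stabF.1 ha) hbi) hbi)
  · intro a _
    exact cg_shift a b
  · intro a _
    exact cg_shift' a b
  · intro a ha
    rw [mem_stabF] at ha
    have hab := (d.stab e).mul_mem ha hb
    rw [hu.mul a ha b hb, hu.mul _ hbi _ ((d.stab e).mul_mem hab hb)]
    congr 1
    · rw [bet_mul_right he.blk hbi.2 hab.2 hb.2, bet_mul_right he.blk hbi.2 ha.2 hb.2,
        bet_inv he.blk hb.2 hbi.2, bet_self_inv he.blk hb, inv_one, mul_one, mul_one,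
        bet_inv he.blk ha.2 hbi.2]
      refine eq_inv_of_mul_eq_one_left ?_
      rw [← bet_mul_right he.blk ha.2 hb.2 hbi.2, show b * b⁻¹ = 1 from mul_inv_cancel b,
        bet_one_right he.blk ha.2]
    · exact congrArg (d.u e) (cg_shift'' a b).symm

theorem E_mul_u (he : d.Fixed e) (ha : a ∈ d.stab e) : d.E e * d.u e a = d.u e a * d.E e := by
  have hu := isSection_u he
  rw [E, smul_mul_assoc, mul_smul_comm, Finset.sum_mul, Finset.mul_sum]
  congr 1
  refine Finset.sum_congr rfl fun x hx => ?_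
  rw [mem_radF] at hx
  rw [hu.mul x hx.1 a ha, hu.mul a ha x hx.1, hx.2 a ha, hx.left he.blk ha, mul_comm x a]

theorem E_mul_rad (he : d.Fixed e) (hx : d.InRad e x) : d.E e * d.u e x = d.E e := by
  rw [E, smul_mul_assoc, Finset.sum_mul]
  congr 1
  refine Finset.sum_bij' (fun y _ => y * x) (fun y _ => y * x⁻¹) ?_ ?_ ?_ ?_ ?_
  · exact fun y hy => mem_radF.2 ((mem_radF.1 hy).mul he.blk hx)
  · exact fun y hy => mem_radF.2 ((mem_radF.1 hy).mul he.blk (hx.inv he.blk))
  · intro y _
    exact mul_inv_cancel_right y x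
  · intro y _
    exact inv_mul_cancel_right y x
  · intro y hy
    rw [mem_radF] at hy
    rw [(isSection_u he).mul y hy.1 x hx.1, hx.2 y hy.1, one_smul]

theorem radF_card_ne_zero (he : IsBlock e) : ((d.radF e).card : ℂ) ≠ 0 :=
  Nat.cast_ne_zero.2 (Finset.card_pos.2 ⟨1, mem_radF.2 (InRad.one he)⟩).ne'

theorem stabF_card_ne_zero : ((d.stabF e).card : ℂ) ≠ 0 :=
  Nat.cast_ne_zero.2 (Finset.card_pos.2 ⟨1, mem_stabF.2 (d.stab e).one_mem⟩).ne'

theorem E_mul_E (he : d.Fixed e) : d.E e * d.E e = d.E e := by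
  conv_lhs => arg 2; rw [E]
  rw [mul_smul_comm, Finset.mul_sum, Finset.sum_congr rfl fun x hx => E_mul_rad he (mem_radF.1 hx),
    Finset.sum_const, ← Nat.cast_smul_eq_nsmul ℂ, smul_smul,
    inv_mul_cancel₀ (radF_card_ne_zero he.blk), one_smul]

theorem pie_mul_E (he : d.Fixed e) : d.pie e * d.E e = d.pie e := by
  have hu := isSection_u he
  have hkey : ∀ x, d.InRad e x → d.pie e * d.u e x = d.pie e := by
    intro x hx
    rw [pie, smul_mul_assoc, Finset.sum_mul]
    congr 1
    refine Finset.sum_bij' (fun y _ => y * x) (fun y _ => y * x⁻¹) ?_ ?_ ?_ ?_ ?_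
    · exact fun y hy => mem_stabF.2 ((d.stab e).mul_mem (mem_stabF.1 hy) hx.1)
    · exact fun y hy => mem_stabF.2 ((d.stab e).mul_mem (mem_stabF.1 hy) (hx.inv he.blk).1)
    · intro y _
      exact mul_inv_cancel_right y x
    · intro y _
      exact inv_mul_cancel_right y x
    · intro y hy
      rw [mem_stabF] at hy
      rw [hu.mul y hy x hx.1, hx.2 y hy, one_smul]
  rw [E, mul_smul_comm, Finset.mul_sum, Finset.sum_congr rfl fun x hx => hkey x (mem_radF.1 hx),
    Finset.sum_const, ← Nat.cast_smul_eq_nsmul ℂ, smul_smul,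
    inv_mul_cancel₀ (radF_card_ne_zero he.blk), one_smul]

theorem nrm_sq : d.nrm e * d.nrm e = ((d.stabF e).card * (d.radF e).card : ℂ)⁻¹ := by
  rw [nrm, ← mul_inv, ← Complex.ofReal_mul, Real.mul_self_sqrt (by positivity)]
  push_cast
  rfl

theorem pie_sq (he : d.Fixed e) : d.pie e * d.pie e = d.E e := by
  classical
  have hu := isSection_u he
  have hS : (∑ a ∈ d.stabF e, d.u e a) * (∑ a ∈ d.stabF e, d.u e a) =
      ((d.stabF e).card : ℂ) • ∑ x ∈ d.radF e, d.u e x := by
    rw [Finset.sum_mul]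
    have h1 : ∀ a ∈ d.stabF e, d.u e a * (∑ b ∈ d.stabF e, d.u e b) =
        ∑ w ∈ d.stabF e, bet e a w • d.u e w := by
      intro a ha
      rw [mem_stabF] at ha
      rw [Finset.mul_sum]
      refine Finset.sum_bij' (fun b _ => a * b) (fun w _ => a⁻¹ * w) ?_ ?_ ?_ ?_ ?_
      · exact fun b hb => mem_stabF.2 ((d.stab e).mul_mem ha (mem_stabF.1 hb))
      · exact fun w hw =>
          mem_stabF.2 ((d.stab e).mul_mem ((d.stab e).inv_mem ha) (mem_stabF.1 hw))
      · intro b _
        exact inv_mul_cancel_left a b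
      · intro w _
        exact mul_inv_cancel_left a w
      · intro b hb
        rw [mem_stabF] at hb
        rw [hu.mul a ha b hb, bet_mul_right he.blk ha.2 ha.2 hb.2, bet_self he.blk ha.2, one_mul]
    rw [Finset.sum_congr rfl h1, Finset.sum_comm]
    simp only [← Finset.sum_smul]
    have hsub : d.radF e ⊆ d.stabF e := fun x hx => mem_stabF.2 (mem_radF.1 hx).1
    rw [Finset.smul_sum, ← Finset.sum_subset hsub]
    · refine Finset.sum_congr rfl fun w hw => ?_
      rw [mem_radF] at hw
      rw [Finset.sum_congr rfl fun a ha => hw.2 a (mem_stabF.1 ha), Finset.sum_const,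
        nsmul_eq_mul, mul_one]
    · intro w hw hnr
      rw [mem_stabF] at hw
      rw [mem_radF] at hnr
      obtain ⟨c, hc, hne⟩ : ∃ c ∈ d.stab e, bet e c w ≠ 1 := by
        by_contra hcon
        exact hnr ⟨hw, by simpa only [not_exists, not_and, not_not] using hcon⟩
      have hshift : bet e c w * ∑ a ∈ d.stabF e, bet e a w = ∑ a ∈ d.stabF e, bet e a w := by
        rw [Finset.mul_sum]
        refine Finset.sum_bij' (fun a _ => c * a) (fun a _ => c⁻¹ * a) ?_ ?_ ?_ ?_ ?_
        · exact fun a ha => mem_stabF.2 ((d.stab e).mul_mem hc (mem_stabF.1 ha))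
        · exact fun a ha =>
            mem_stabF.2 ((d.stab e).mul_mem ((d.stab e).inv_mem hc) (mem_stabF.1 ha))
        · intro a _
          exact inv_mul_cancel_left c a
        · intro a _
          exact mul_inv_cancel_left c a
        · intro a ha
          rw [bet_mul_left he.blk hc.2 (mem_stabF.1 ha).2 hw.2]
      have h0 : ∑ a ∈ d.stabF e, bet e a w = 0 := by
        by_contra hne0
        exact hne ((mul_eq_right₀ hne0).1 hshift)
      rw [h0, zero_smul]
  rw [pie, smul_mul_smul_comm, hS, smul_smul, nrm_sq, E]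
  congr 1
  have h1 := stabF_card_ne_zero (d := d) (e := e)
  have h2 := radF_card_ne_zero (d := d) he.blk
  field_simp

theorem pie_pie_pie (he : d.Fixed e) : d.pie e * d.pie e * d.pie e = d.pie e := by
  rw [mul_assoc, pie_sq he, pie_mul_E he]

theorem inRad_act (he : d.Fixed e) (hx : d.InRad e x) (s : S) : d.InRad e (act (d.φ s) x) := by
  refine ⟨he.act_mem_stab hx.1 s, fun a ha => ?_⟩
  have ha' := he.act_mem_stab ha s⁻¹
  have h := he.bet_act ha'.2 hx.1.2 s
  rwa [act_act, ← map_mul, mul_inv_cancel, map_one, show act (1 : MulAut K) a = a from rfl,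
    hx.2 _ ha'] at h

theorem pie_fix (he : d.Fixed e) (t : S) : mapA (d.φ t).toMonoidHom (d.pie e) = d.pie e := by
  rw [pie, map_smul, map_sum]
  congr 1
  refine Finset.sum_bij' (fun a _ => act (d.φ t) a) (fun a _ => act (d.φ t).symm a) ?_ ?_ ?_ ?_ ?_
  · exact fun a ha => mem_stabF.2 (he.act_mem_stab (mem_stabF.1 ha) t)
  · intro a ha
    rw [mem_stabF] at ha ⊢
    have := he.act_mem_stab ha t⁻¹
    rwa [map_inv] at this
  · intro a _
    exact act_symm_self _ a
  · intro a _
    exact act_self_symm _ a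
  · intro a ha
    rw [(isSection_u he).equiv a (mem_stabF.1 ha) t]

theorem inRad_map (he : d.Fixed e) {α : MulAut K} (hα : d.Compat α) (hx : d.InRad e x) :
    d.InRad (mapA α.toMonoidHom e) (act α x) := by
  refine ⟨act_mem_stab_map hα hx.1, fun a ha => ?_⟩
  have hb := symm_act_mem_stab hα ha
  rw [← act_self_symm α a, bet_mapA he.blk hb.2 hx.1.2 α, hx.2 _ hb]

theorem Compat.symm {α : MulAut K} (hα : d.Compat α) : d.Compat α.symm :=
  ⟨fun s => (hα.comm s).inv_left, hα.mem', fun a ha => hα.mem a ha⟩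

theorem stabF_card_map {α : MulAut K} (hα : d.Compat α) :
    (d.stabF (mapA α.toMonoidHom e)).card = (d.stabF e).card := by
  refine Finset.card_bij' (fun a _ => act α.symm a) (fun a _ => act α a) ?_ ?_ ?_ ?_
  · exact fun a ha => mem_stabF.2 (symm_act_mem_stab hα (mem_stabF.1 ha))
  · exact fun a ha => mem_stabF.2 (act_mem_stab_map hα (mem_stabF.1 ha))
  · intro a _
    exact act_self_symm α a
  · intro a _
    exact act_symm_self α a

theorem radF_card_map (he : d.Fixed e) {α : MulAut K} (hα : d.Compat α) :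
    (d.radF (mapA α.toMonoidHom e)).card = (d.radF e).card := by
  refine Finset.card_bij' (fun a _ => act α.symm a) (fun a _ => act α a) ?_ ?_ ?_ ?_
  · intro a ha
    have := inRad_map (he.map hα) hα.symm (mem_radF.1 ha)
    rw [mapA_symm_self] at this
    exact mem_radF.2 this
  · exact fun a ha => mem_radF.2 (inRad_map he hα (mem_radF.1 ha))
  · intro a _
    exact act_self_symm α a
  · intro a _
    exact act_symm_self α a

theorem pie_map (he : d.Fixed e) {α : MulAut K} (hα : d.Compat α) :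
    mapA α.toMonoidHom (d.pie e) = d.pie (mapA α.toMonoidHom e) := by
  rw [pie, pie, map_smul, map_sum, nrm, nrm, stabF_card_map hα, radF_card_map he hα]
  congr 1
  refine Finset.sum_bij' (fun a _ => act α a) (fun a _ => act α.symm a) ?_ ?_ ?_ ?_ ?_
  · exact fun a ha => mem_stabF.2 (act_mem_stab_map hα (mem_stabF.1 ha))
  · exact fun a ha => mem_stabF.2 (symm_act_mem_stab hα (mem_stabF.1 ha))
  · intro a _
    exact act_symm_self α a
  · intro a _
    exact act_self_symm α a
  · intro a ha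
    exact u_map he hα (mem_stabF.1 ha)

theorem gen_comm_u (he : d.Fixed e) {l : K} (hl : ∀ c ∈ d.D, c l = 1) (ha : a ∈ d.stab e) :
    gen l * d.u e a = d.u e a * gen l := by
  rw [((isSection_u he).line a ha).2, hl a ha.1, Units.val_one, one_smul]

theorem gen_comm_pie (he : d.Fixed e) {l : K} (hl : ∀ c ∈ d.D, c l = 1) :
    gen l * d.pie e = d.pie e * gen l := by
  rw [pie, mul_smul_comm, smul_mul_assoc, Finset.mul_sum, Finset.sum_mul]
  congr 1
  exact Finset.sum_congr rfl fun a ha => gen_comm_u he hl (mem_stabF.1 ha)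

/-- Two fixed blocks related by a twist are equal. -/
theorem fixed_twist_eq {e' : GA K} (he : d.Fixed e) (he' : d.Fixed e') (ha : a ∈ d.D)
    (h : twist a e' = e) : a ∈ d.stab e ∧ e' = e := by
  classical
  have h2 : twist a⁻¹ e = e' := by
    rw [← h, twist_twist, show a⁻¹ * a = 1 from inv_mul_cancel a, twist_one]
  have hs : ∀ s, act (d.φ s) a * a⁻¹ ∈ d.stab e := fun s => by
    refine ⟨d.D.mul_mem (d.actD s a ha) (d.D.inv_mem ha), ?_⟩
    rw [← twist_twist, h2]
    have h3 := congrArg (mapA (d.φ s).toMonoidHom) h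
    rw [mapA_twist, he'.fix, he.fix] at h3
    exact h3
  have hp : (∏ s : S, act (d.φ s) a * a⁻¹) ∈ d.stab e := Subgroup.prod_mem _ fun s _ => hs s
  rw [Finset.prod_mul_distrib, prod_act_eq_one ha, Finset.prod_const, Finset.card_univ,
    ← Nat.card_eq_fintype_card] at hp
  have hp' : a⁻¹ ^ Nat.card S ∈ d.stab e := by
    rwa [show (1 : K →* ℂˣ) * a⁻¹ ^ Nat.card S = a⁻¹ ^ Nat.card S from cg_one_mul (G := K →* ℂˣ) _] at hp
  have hcop : (orderOf a⁻¹).Coprime (Nat.card S) :=
    Nat.Coprime.coprime_dvd_left (orderOf_dvd_of_pow_eq_one (lin_pow_card a⁻¹)) d.cop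
  obtain ⟨m, hm⟩ := exists_pow_eq_self_of_coprime hcop.symm
  have hai : a⁻¹ ∈ d.stab e := hm ▸ (d.stab e).pow_mem hp' m
  exact ⟨cg_inv_inv a ▸ (d.stab e).inv_mem hai, h2.symm.trans hai.2⟩

theorem pie_twist_pie (he : d.Fixed e) (ha : a ∈ d.stab e) :
    d.pie e * twist a (d.pie e) = d.E e * d.u e (a * a) := by
  rw [← pie_mul_block he, mul_assoc, he.blk.comm (twist a _), pie_mul_block he,
    twist_mul_block he ha, ← mul_assoc, ← mul_assoc, pie_mul_u he ((d.stab e).inv_mem ha),
    show a⁻¹⁻¹ = a from cg_inv_inv a, mul_assoc (d.u e a), pie_sq he, ← E_mul_u he ha, mul_assoc, u_sq he ha]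

theorem pie_mul_twist_zero {e' : GA K} (he : d.Fixed e) (he' : d.Fixed e') (h : twist a e' ≠ e) :
    d.pie e * twist a (d.pie e') = 0 := by
  have h0 : e * twist a e' = 0 := he.blk.mul_eq_zero (he'.blk.twist a) (Ne.symm h)
  rw [← pie_mul_block he, ← pie_mul_block he', map_mul, mul_assoc, ← (he'.blk.twist a).comm,
    ← mul_assoc e, h0, zero_mul, mul_zero]

/-! ### Descent and twist orbits -/

variable (d) in
/-- The normalised orbit average. -/
noncomputable def orb (e w : GA K) : GA K :=
  ((d.stabF e).card : ℂ)⁻¹ • ∑ ν ∈ d.DF, twist ν w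

theorem twist_orb (w : GA K) (ha : a ∈ d.D) : twist a (d.orb e w) = d.orb e w := by
  rw [orb, map_smul, map_sum, Finset.sum_congr rfl fun ν _ => twist_twist a ν w,
    sum_DF_twist w ha]

theorem orb_mul (he : IsBlock e) {w : GA K} (hw : w * e = w)
    (hinv : ∀ a ∈ d.stab e, twist a w = w) : d.orb e w * e = w := by
  classical
  rw [orb, smul_mul_assoc, Finset.sum_mul]
  have hsub : d.stabF e ⊆ d.DF := fun a ha => mem_DF.2 (mem_stabF.1 ha).1
  rw [← Finset.sum_subset hsub, Finset.sum_congr rfl fun a ha => (show twist a w * e = w by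
      rw [hinv a (mem_stabF.1 ha), hw]), Finset.sum_const, ← Nat.cast_smul_eq_nsmul ℂ, smul_smul,
    inv_mul_cancel₀ stabF_card_ne_zero, one_smul]
  intro a ha hns
  rw [mem_DF] at ha
  rw [mem_stabF] at hns
  have hne : twist a e ≠ e := fun h => hns ⟨ha, h⟩
  rw [← hw, map_mul, mul_assoc, (he.twist a).mul_eq_zero he hne, mul_zero]

theorem orb_block_mul (he : IsBlock e) (ha : a ∈ d.D) : d.orb e e * twist a e = twist a e := by
  conv_lhs => arg 1; rw [← twist_orb (d := d) (e := e) e ha]
  rw [← map_mul, orb_mul he he.idem fun b hb => hb.2]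

/-- Elements commuting with the section descend. -/
theorem orb_mul_of_comm (he : d.Fixed e) {w : GA K} (hw : w * e = w)
    (hcomm : ∀ a ∈ d.stab e, d.u e a * w = w * d.u e a) : d.orb e w * e = w := by
  classical
  rw [orb, smul_mul_assoc, Finset.sum_mul]
  have hsub : d.stabF e ⊆ d.DF := fun a ha => mem_DF.2 (mem_stabF.1 ha).1
  rw [← Finset.sum_subset hsub, Finset.sum_congr rfl fun a ha => (show twist a w * e = w by
      rw [mem_stabF] at ha
      rw [twist_mul_block he ha, mul_assoc, ← hcomm a ha, ← mul_assoc, u_inv_mul he ha,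
        he.blk.comm, hw]), Finset.sum_const, ← Nat.cast_smul_eq_nsmul ℂ, smul_smul,
    inv_mul_cancel₀ stabF_card_ne_zero, one_smul]
  intro a ha hns
  rw [mem_DF] at ha
  rw [mem_stabF] at hns
  have hne : twist a e ≠ e := fun h => hns ⟨ha, h⟩
  rw [← hw, map_mul, mul_assoc, (he.blk.twist a).mul_eq_zero he.blk hne, mul_zero]

end Data

end CfsgLib.CharsMore.Parity
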