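import Cfsg.Agent.Lib.CharsMore.Parity.Block

/-!
# Invariant irreducible representations lie over fixed blocks
-/

set_option autoImplicit false
set_option linter.unusedSectionVars false
set_option linter.style.haveILetI false

namespace CfsgLib.CharsMore.Parity

open Cfsg Module

section Idem

variable {V : Type*} [AddCommGroup V] [Module ℂ V] [FiniteDimensional ℂ V]

theorem isProj_range {A : Module.End ℂ V} (hA : A * A = A) :
    LinearMap.IsProj (LinearMap.range A) A :=
  ⟨fun x => LinearMap.mem_range_self A x, fun x hx => by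
    obtain ⟨y, rfl⟩ := LinearMap.mem_range.1 hx
    rw [← Module.End.mul_apply, hA]⟩

theorem trace_idem_eq_zero {A : Module.End ℂ V} (hA : A * A = A) :
    LinearMap.trace ℂ V A = 0 ↔ A = 0 := by
  refine ⟨fun h => ?_, fun h => by rw [h, map_zero]⟩
  rw [(isProj_range hA).trace, Nat.cast_eq_zero, Submodule.finrank_eq_zero,
    LinearMap.range_eq_bot] at h
  exact h

end Idem

variable {G N C S : Type*} [Group G] [Fintype G] [Group N] [Fintype N] [Group C] [Fintype C]
  [Group S] [Fintype S]

/-- The blocks fixed by an acting group. -/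
noncomputable def fixedBlocks (φ : S →* MulAut N) : Finset (GA N) :=
  haveI := Classical.decPred fun e : GA N => ∀ s, mapA (φ s).toMonoidHom e = e
  (blocks N).filter fun e => ∀ s, mapA (φ s).toMonoidHom e = e

theorem mem_fixedBlocks {φ : S →* MulAut N} {e : GA N} :
    e ∈ fixedBlocks φ ↔ IsBlock e ∧ ∀ s, mapA (φ s).toMonoidHom e = e := by
  simp only [fixedBlocks, @Finset.mem_filter, mem_blocks]

theorem mapA_conj (ι : N →* G) (j : C →* G) (cj : C →* MulAut N)
    (hcj : ∀ c n, ι (cj c n) = j c * ι n * (j c)⁻¹) (c : C) (y : GA N) :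
    gen (j c) * mapA ι y = mapA ι (mapA (cj c).toMonoidHom y) * gen (j c) := by
  rw [eq_sum y, map_sum, map_sum, map_sum, Finset.mul_sum, Finset.sum_mul]
  refine Finset.sum_congr rfl fun n _ => ?_
  rw [map_smul, map_smul, map_smul, mapA_gen, mapA_gen, mapA_gen, mul_smul_comm, smul_mul_assoc,
    ← gen_mul, ← gen_mul]
  congr 2
  rw [MulEquiv.coe_toMonoidHom, hcj, inv_mul_cancel_right]

/-- A central element of `N` fixed by `C` is central in `G = N C`. -/
theorem mapA_central (ι : N →* G) (j : C →* G) (cj : C →* MulAut N)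
    (hcj : ∀ c n, ι (cj c n) = j c * ι n * (j c)⁻¹) (hgen : ∀ g : G, ∃ n c, g = ι n * j c)
    {y : GA N} (hy : ∀ x, y * x = x * y) (hfix : ∀ c, mapA (cj c).toMonoidHom y = y) (z : GA G) :
    mapA ι y * z = z * mapA ι y := by
  refine (comm_of_gen (fun g => ?_) z).symm
  obtain ⟨n, c, rfl⟩ := hgen g
  rw [gen_mul, mul_assoc, mapA_conj ι j cj hcj, hfix, ← mul_assoc, ← mul_assoc, ← mapA_gen,
    ← map_mul, ← map_mul, hy]

variable (ι : N →* G) (j : C →* G) (cj : C →* MulAut N) (φ : S →* MulAut N) (θ : S →* MulAut G)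

/-- An invariant irreducible representation lies over fixed blocks. -/
theorem asAlgebraHom_sum_fixedBlocks (hcj : ∀ c n, ι (cj c n) = j c * ι n * (j c)⁻¹)
    (hgen : ∀ g : G, ∃ n c, g = ι n * j c) (hφ : ∀ s n, ι (φ s n) = θ s (ι n))
    (hcomm : ∀ c s, Commute (cj c) (φ s)) (hcop : (Nat.card C).Coprime (Nat.card S))
    {V : Type*} [AddCommGroup V] [Module ℂ V] [FiniteDimensional ℂ V] (ρ : Representation ℂ G V)
    [ρ.IsIrreducible] (hinv : ∀ s g, ρ.character (θ s g) = ρ.character g) :
    ρ.asAlgebraHom (mapA ι (∑ e ∈ fixedBlocks φ, e)) = 1 := by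
  classical
  have hzero : ∀ e ∈ blocks N, e ∉ fixedBlocks φ → ρ.asAlgebraHom (mapA ι e) = 0 := by
    intro e he hnf
    rw [mem_blocks] at he
    by_contra hne
    apply hnf
    refine mem_fixedBlocks.2 ⟨he, fun s => ?_⟩
    -- the orbit of `e`
    set O : Finset (GA N) := Finset.univ.image fun c => mapA (cj c).toMonoidHom e with hO
    have heO : e ∈ O := Finset.mem_image.2 ⟨1, Finset.mem_univ _, by rw [map_one]; exact mapA_id e⟩
    have hOblk : ∀ f ∈ O, IsBlock f := by
      intro f hf
      obtain ⟨c, -, rfl⟩ := Finset.mem_image.1 hf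
      exact he.mapA (cj c)
    have hOfix : ∀ c, mapA (cj c).toMonoidHom (∑ f ∈ O, f) = ∑ f ∈ O, f := by
      intro c
      rw [map_sum]
      have hmem : ∀ c', ∀ f ∈ O, mapA (cj c').toMonoidHom f ∈ O := by
        intro c' f hf
        obtain ⟨c'', -, rfl⟩ := Finset.mem_image.1 hf
        refine Finset.mem_image.2 ⟨c' * c'', Finset.mem_univ _, ?_⟩
        rw [map_mul, mapA_mapA]
        rfl
      refine Finset.sum_bij' (fun f _ => mapA (cj c).toMonoidHom f)
        (fun f _ => mapA (cj c⁻¹).toMonoidHom f) (hmem c) (hmem c⁻¹) ?_ ?_ fun f _ => rfl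
      · intro f _
        rw [map_inv]
        exact (mapE (cj c)).symm_apply_apply f
      · intro f _
        rw [map_inv]
        exact (mapE (cj c)).apply_symm_apply f
    obtain ⟨a, ha⟩ := schur_asAlgebraHom ρ (mapA_central ι j cj hcj hgen
      (y := ∑ f ∈ O, f) (fun x => by
        rw [Finset.sum_mul, Finset.mul_sum]
        exact Finset.sum_congr rfl fun f hf => (hOblk f hf).comm x) hOfix)
    have hmulO : ∀ f, IsBlock f → f ∈ O → f * ∑ f' ∈ O, f' = f := by
      intro f hfb hf
      rw [Finset.mul_sum, Finset.sum_eq_single f]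
      · exact hfb.idem
      · exact fun f' hf' hne' => hfb.mul_eq_zero (hOblk f' hf') hne'.symm
      · exact fun h => absurd hf h
    have ha0 : a ≠ 0 := by
      intro h0
      apply hne
      rw [← hmulO e he heO, map_mul, map_mul, ha, h0, zero_smul, mul_zero]
    -- the image of `e` under `s`
    have hs0 : ρ.asAlgebraHom (mapA ι (mapA (φ s).toMonoidHom e)) ≠ 0 := by
      intro h0
      apply hne
      refine (trace_idem_eq_zero (by rw [← map_mul, ← map_mul, he.idem])).1 ?_
      rw [← ev_character]
      have h1 : ev ρ.character (mapA ι (mapA (φ s).toMonoidHom e)) = ev ρ.character (mapA ι e) :=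
        ext_gen (f := (ev ρ.character).comp ((mapA ι).comp (mapA (φ s).toMonoidHom)).toLinearMap)
          (g := (ev ρ.character).comp (mapA ι).toLinearMap) (fun n => by
            simp [hφ, hinv]) e
      rw [← h1, ev_character, h0, map_zero]
    have hsO : mapA (φ s).toMonoidHom e ∈ O := by
      by_contra hno
      apply hs0
      have h2 : mapA (φ s).toMonoidHom e * ∑ f ∈ O, f = 0 := by
        rw [Finset.mul_sum]
        exact Finset.sum_eq_zero fun f hf => (he.mapA (φ s)).mul_eq_zero (hOblk f hf)
          fun h => hno (h ▸ hf)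
      have h3 := congrArg (fun y => ρ.asAlgebraHom (mapA ι y)) h2
      simp only [map_mul, map_zero, ha, mul_smul_comm, mul_one] at h3
      exact (smul_eq_zero.1 h3).resolve_left ha0
    obtain ⟨c, -, hc⟩ := Finset.mem_image.1 hsO
    have hpow : ∀ n : ℕ, mapA (φ (s ^ n)).toMonoidHom e = mapA (cj (c ^ n)).toMonoidHom e := by
      intro n
      induction n with
      | zero => simp
      | succ n ih =>
        calc mapA (φ (s ^ (n + 1))).toMonoidHom e
            = mapA (φ s).toMonoidHom (mapA (φ (s ^ n)).toMonoidHom e) := by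
              rw [mapA_mapA, pow_succ', map_mul]; rfl
          _ = mapA (φ s).toMonoidHom (mapA (cj (c ^ n)).toMonoidHom e) := by rw [ih]
          _ = mapA (cj (c ^ n)).toMonoidHom (mapA (φ s).toMonoidHom e) := by
              rw [mapA_mapA, mapA_mapA]
              congr 2
              exact congrArg MulEquiv.toMonoidHom (hcomm (c ^ n) s).eq.symm
          _ = mapA (cj (c ^ (n + 1))).toMonoidHom e := by
              rw [← hc, mapA_mapA, pow_succ, map_mul]; rfl
    have hd : mapA (cj (c ^ Nat.card S)).toMonoidHom e = e := by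
      rw [← hpow, pow_card_eq_one', map_one]
      exact mapA_id e
    obtain ⟨m, hm⟩ := exists_pow_eq_self_of_coprime
      ((Nat.Coprime.coprime_dvd_left (orderOf_dvd_natCard c) hcop).symm)
    have hdm : ∀ i : ℕ, mapA (cj ((c ^ Nat.card S) ^ i)).toMonoidHom e = e := by
      intro i
      induction i with
      | zero => rw [pow_zero, map_one]; exact mapA_id e
      | succ i ih =>
        calc mapA (cj ((c ^ Nat.card S) ^ (i + 1))).toMonoidHom e
            = mapA (cj ((c ^ Nat.card S) ^ i)).toMonoidHom
                (mapA (cj (c ^ Nat.card S)).toMonoidHom e) := by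
              rw [mapA_mapA, pow_succ, map_mul]; rfl
          _ = e := by rw [hd, ih]
    rw [← hc, ← hm, hdm]
  have h1 := congrArg (fun y => ρ.asAlgebraHom (mapA ι y)) (sum_blocks (K := N))
  simp only [map_one, map_sum] at h1
  rw [map_sum, map_sum, ← h1]
  exact Finset.sum_subset (fun e he => mem_blocks.2 (mem_fixedBlocks.1 he).1) hzero

end CfsgLib.CharsMore.Parity
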