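import Cfsg.Agent.Lib.CharsMore.Parity.Norm

/-!
# The parity map is an isometry on admissible irreducible characters
-/

set_option autoImplicit false
set_option linter.unusedSectionVars false
set_option linter.style.haveILetI false

namespace CfsgLib.CharsMore.Parity

open Cfsg Module
open scoped ComplexConjugate

namespace Setup

variable {G K L C S : Type*} [Group G] [Fintype G] [Group K] [Fintype K] [Group L] [Fintype L]
  [Group C] [Fintype C] [Group S] [Fintype S]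
variable (T : Setup G K L C S) {χ χ' : G → ℂ}

theorem pi_mul_twist {a : K →* ℂˣ} (ha : a ∈ T.B.d.D)
    [DecidablePred fun e => twist a e = e] :
    T.pi * twist a T.pi =
      ∑ e ∈ T.Th with twist a e = e, T.B.d.E e * T.B.d.u e (a * a) := by
  classical
  rw [pi, map_sum, Finset.sum_mul, Finset.sum_filter]
  refine Finset.sum_congr rfl fun e he => ?_
  have hef := T.mem_Th.1 he
  rw [Finset.mul_sum]
  split_ifs with h
  · rw [Finset.sum_eq_single e, Data.pie_twist_pie hef ⟨ha, h⟩]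
    · intro e' he' hne
      refine Data.pie_mul_twist_zero hef (T.mem_Th.1 he') fun h' => hne ?_
      exact (Data.fixed_twist_eq hef (T.mem_Th.1 he') ha h').2
    · exact fun h' => absurd he h'
  · refine Finset.sum_eq_zero fun e' he' => ?_
    refine Data.pie_mul_twist_zero hef (T.mem_Th.1 he') fun h' => h ?_
    exact (Data.fixed_twist_eq hef (T.mem_Th.1 he') ha h').1.2

theorem block_term (hχ : IsIrrCharacter G χ) (hχ' : IsIrrCharacter G χ') (c : C) {e : GA K}
    (he : T.B.d.Fixed e) :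
    ∑ a ∈ T.B.d.stabF e, T.Phi (fun k => (a k : ℂ)) χ χ'
        (gen (T.j c) * mapA T.ι (T.B.d.E e * T.B.d.u e (a * a))) (gen (T.j c)⁻¹) =
      T.Ec χ χ' c e := by
  classical
  have hu := Data.isSection_u he
  set w : (K →* ℂˣ) → GA K := fun a => mapA (T.cj c⁻¹).toMonoidHom (T.B.d.u e a) with hw
  have hterm : ∀ a ∈ T.B.d.stab e, T.Phi (fun k => (a k : ℂ)) χ χ'
      (gen (T.j c) * mapA T.ι (T.B.d.E e * T.B.d.u e (a * a))) (gen (T.j c)⁻¹) =
      T.Ec χ χ' c (w a * (T.B.d.E e * T.B.d.u e a)) := by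
    intro a ha
    have haa := (T.B.d.stab e).mul_mem ha ha
    have hza : T.B.d.E e * T.B.d.u e (a * a) * T.B.d.u e a⁻¹ = T.B.d.E e * T.B.d.u e a := by
      rw [← Data.u_sq he ha, mul_assoc, mul_assoc (T.B.d.u e a), Data.u_mul_inv he ha,
        (hu.line a ha).1]
    rw [T.Phi_block hχ he ha (by rw [mul_assoc, ← map_mul, mul_assoc, (hu.line _ haa).1]), Ec_apply]
    congr 2
    rw [← mul_assoc, show mapA T.ι (T.B.d.u e a) * gen (T.j c) = gen (T.j c) * mapA T.ι (w a) by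
      rw [mapA_conj T.ι T.j T.cj T.hcj, hw]
      simp only
      rw [T.mapA_cj_self_inv], mul_assoc, mul_assoc, ← map_mul, ← map_mul, hza]
  rw [Finset.sum_congr rfl fun a ha => hterm a (Data.mem_stabF.1 ha)]
  by_cases hce : mapA (T.cj c⁻¹).toMonoidHom e = e
  · have hce' : mapA (T.cj c).toMonoidHom e = e := by
      conv_lhs => rw [← hce]
      exact T.mapA_cj_self_inv c e
    have hval : ∀ a ∈ T.B.d.stab e, T.Ec χ χ' c (w a * (T.B.d.E e * T.B.d.u e a)) =
        if T.B.d.InRad e a then ((T.B.d.radF e).card : ℂ)⁻¹ * T.Ec χ χ' c e else 0 := by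
      intro a ha
      set a2 := act (T.cj c⁻¹) a with ha2def
      have ha2 : a2 ∈ T.B.d.stab e := by
        have := Data.act_mem_stab_map (T.compat c⁻¹) ha
        rwa [hce] at this
      have hwa : w a = T.B.d.u e a2 := by
        rw [hw]
        simp only
        rw [Data.u_map he (T.compat c⁻¹) ha, hce]
      rw [hwa, ← mul_assoc, ← Data.E_mul_u he ha2, mul_assoc, hu.mul a2 ha2 a ha, mul_smul_comm,
        map_smul, smul_eq_mul]
      have hE := T.Ec_E hχ hχ' c he ((T.B.d.stab e).mul_mem ha2 ha)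
      split_ifs with hr
      · have h1 : T.B.d.InRad e a2 := by
          have := Data.inRad_map he (T.compat c⁻¹) hr
          rwa [hce] at this
        rw [hr.2 a2 ha2, one_mul, hE.1 (h1.mul he.blk hr)]
      · rw [hE.2 (fun hy => hr (T.mem_rad_of_act c⁻¹ he hce ha hy)), mul_zero]
    rw [Finset.sum_congr rfl fun a ha => hval a (Data.mem_stabF.1 ha), ← Finset.sum_filter,
      Finset.sum_const, nsmul_eq_mul]
    have hf : (T.B.d.stabF e).filter (fun a => T.B.d.InRad e a) = T.B.d.radF e := by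
      ext a
      simp only [Finset.mem_filter, Data.mem_stabF, Data.mem_radF]
      exact ⟨fun h => h.2, fun h => ⟨h.1, h⟩⟩
    rw [hf, ← mul_assoc, mul_inv_cancel₀ (Data.radF_card_ne_zero he.blk), one_mul]
  · have hce' : mapA (T.cj c).toMonoidHom e ≠ e := fun h => hce (by
      conv_lhs => rw [← h]
      exact T.mapA_cj_inv_self c e)
    rw [T.Ec_block_ne hχ c he.blk hce']
    refine Finset.sum_eq_zero fun a ha => ?_
    rw [Data.mem_stabF] at ha
    have h0 : mapA (T.cj c⁻¹).toMonoidHom e * e = 0 :=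
      (he.blk.mapA (T.cj c⁻¹)).mul_eq_zero he.blk hce
    have hwz : w a * e = 0 := by
      rw [hw]
      simp only
      rw [← (hu.line a ha).1, map_mul, mul_assoc, h0, mul_zero]
    rw [← Data.E_mul_block he, ← he.blk.comm, ← mul_assoc, ← mul_assoc, hwz, zero_mul, zero_mul,
      map_zero]

theorem coset_term (hχ : IsIrrCharacter G χ) (hχ' : IsIrrCharacter G χ') (hA : T.Adm χ) (c : C) :
    ∑ a ∈ T.B.d.DF, ∑ k : K, (a k : ℂ) *
        (ev χ (gen (T.j c * T.ι k) * T.Pi) * ev χ' (gen (T.j c * T.ι k)⁻¹ * T.Pi)) =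
      ∑ k : K, χ (T.j c * T.ι k) * χ' (T.j c * T.ι k)⁻¹ := by
  classical
  have h1 : ∀ a ∈ T.B.d.DF, ∑ k : K, (a k : ℂ) *
      (ev χ (gen (T.j c * T.ι k) * T.Pi) * ev χ' (gen (T.j c * T.ι k)⁻¹ * T.Pi)) =
      ∑ e ∈ T.Th with twist a e = e, T.Phi (fun k => (a k : ℂ)) χ χ'
        (gen (T.j c) * mapA T.ι (T.B.d.E e * T.B.d.u e (a * a))) (gen (T.j c)⁻¹) := by
    intro a ha
    rw [← LinearMap.sum_apply, ← map_sum, ← Finset.mul_sum, ← map_sum,
      ← T.pi_mul_twist (Data.mem_DF.1 ha), map_mul (mapA T.ι), ← mul_assoc, ← Pi, ← T.Phi_move hχ, ← Pi]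
    rw [Phi_apply]
    refine Finset.sum_congr rfl fun k _ => ?_
    congr 2
    · rw [gen_mul, ev_mul_comm' hχ, ← mul_assoc, T.gen_j_Pi]
    · have hcc : gen (T.j c)⁻¹ * T.Pi = T.Pi * gen (T.j c)⁻¹ := by
        rw [← map_inv, T.gen_j_Pi]
      rw [mul_inv_rev, gen_mul, mul_assoc, hcc, ← map_inv T.ι]
  rw [Finset.sum_congr rfl h1]
  have hswap : (∑ a ∈ T.B.d.DF, ∑ e ∈ T.Th with twist a e = e,
      T.Phi (fun k => (a k : ℂ)) χ χ'
        (gen (T.j c) * mapA T.ι (T.B.d.E e * T.B.d.u e (a * a))) (gen (T.j c)⁻¹)) =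
      ∑ e ∈ T.Th, ∑ a ∈ T.B.d.stabF e, T.Phi (fun k => (a k : ℂ)) χ χ'
        (gen (T.j c) * mapA T.ι (T.B.d.E e * T.B.d.u e (a * a))) (gen (T.j c)⁻¹) := by
    refine Finset.sum_comm' fun a e => ?_
    simp only [Finset.mem_filter, Data.mem_stabF, Data.mem_DF, Data.mem_stab]
    exact ⟨fun h => ⟨⟨h.1, h.2.2⟩, h.2.1⟩, fun h => ⟨h.1.1, h.2, h.1.2⟩⟩
  rw [hswap, Finset.sum_congr rfl fun e he => T.block_term hχ hχ' c (T.mem_Th.1 he), ← map_sum,
    Ec_apply, Phi_apply]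
  refine Finset.sum_congr rfl fun k _ => ?_
  rw [Pi.one_apply, one_mul, mul_inv_rev, ← map_inv T.ι, ← gen_mul, ev_gen]
  congr 1
  rw [ev_mul_comm' hχ, ← mul_assoc, hA, ← gen_mul, ev_gen]
  obtain ⟨n, ρ, -, rfl⟩ := hχ
  rw [← Representation.char_conj ρ (T.ι k * T.j c) (T.j c)]
  congr 1
  group

/-- The parity map preserves inner products. -/
theorem inner_f (hχ : IsIrrCharacter G χ) (hχ' : IsIrrCharacter G χ') [Fintype T.H] (hA : T.Adm χ) :
    classInner (T.f χ) (T.f χ') = classInner χ χ' := by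
  classical
  -- the two product decompositions
  have hjmem : ∀ c, T.j c ∈ T.H := fun c => (T.memH _).2 ⟨1, c, by simp⟩
  have hlmem : ∀ l, T.ι (T.B.κ l) ∈ T.H := fun l => (T.memH _).2 ⟨l, 1, by simp⟩
  let a : C →* T.H := T.j.codRestrict T.H hjmem
  let b : L →* T.H := (T.ι.comp T.B.κ).codRestrict T.H hlmem
  have hab : ∀ h : T.H, ∃ x y, h = a x * b y := by
    intro h
    obtain ⟨l, c, hlc⟩ := (T.memH _).1 h⁻¹.2
    refine ⟨c⁻¹, l⁻¹, Subtype.ext ?_⟩
    show (h : G) = T.j c⁻¹ * T.ι (T.B.κ l⁻¹)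
    rw [← inv_inv (h : G), ← Subgroup.coe_inv, hlc, mul_inv_rev, map_inv, map_inv, map_inv]
  have hG : ∀ g : G, ∃ x y, g = T.j x * T.ι y := by
    intro g
    obtain ⟨k, c, hkc⟩ := T.hgen g⁻¹
    exact ⟨c⁻¹, k⁻¹, by rw [← inv_inv g, hkc, mul_inv_rev, map_inv, map_inv]⟩
  let F : T.H → ℂ := fun h => T.f χ h * T.f χ' h⁻¹
  let F' : G → ℂ := fun g => χ g * χ' g⁻¹
  have e1 : classInner (T.f χ) (T.f χ') = (Nat.card T.H : ℂ)⁻¹ * ∑ h, F h := by
    rw [Chars.inner_def]
    simp only [F, T.f_inv hχ']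
  have e2 : classInner χ χ' = (Nat.card G : ℂ)⁻¹ * ∑ g, F' g := by
    rw [Chars.inner_def]
    exact congrArg _ (Finset.sum_congr rfl fun g _ =>
      congrArg (χ g * ·) (Chars.irr_inv ⟨χ', hχ'⟩ g).symm)
  have key : (T.B.d.DF.card : ℂ) * ∑ x : C, ∑ y : L, F (a x * b y) =
      ∑ x : C, ∑ y : K, F' (T.j x * T.ι y) := by
    rw [Finset.mul_sum]
    refine Finset.sum_congr rfl fun c _ => ?_
    exact (T.sum_L fun k => ev χ (gen (T.j c * T.ι k) * T.Pi) *
      ev χ' (gen (T.j c * T.ι k)⁻¹ * T.Pi)).trans (T.coset_term hχ hχ' hA c)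
  have s1 := sum_prod_set a b hab F
  have s2 := sum_prod_set T.j T.ι hG F'
  rw [e1, e2, Nat.card_eq_fintype_card, Nat.card_eq_fintype_card]
  have hH : (Fintype.card T.H : ℂ) ≠ 0 := Nat.cast_ne_zero.2 Fintype.card_ne_zero
  have hGc : (Fintype.card G : ℂ) ≠ 0 := Nat.cast_ne_zero.2 Fintype.card_ne_zero
  have hC : (Fintype.card C : ℂ) ≠ 0 := Nat.cast_ne_zero.2 Fintype.card_ne_zero
  have hK : (Fintype.card K : ℂ) ≠ 0 := Nat.cast_ne_zero.2 Fintype.card_ne_zero
  push_cast at s1 s2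
  rw [← key] at s2
  have h3 : (Fintype.card G : ℂ) * ∑ h, F h = (Fintype.card T.H : ℂ) * ∑ g, F' g := by
    refine mul_left_cancel₀ (mul_ne_zero hC hK) ?_
    rw [← T.card_DF] at s2 ⊢
    linear_combination (-(T.B.d.DF.card : ℂ) * (Fintype.card G : ℂ)) * s1 +
      (Fintype.card T.H : ℂ) * s2
  field_simp
  linear_combination h3

end Setup

end CfsgLib.CharsMore.Parity
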