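import Cfsg.Agent.Lib.CharsMore.Parity.Block

/-!
# Canonical sections of a twisted group algebra and the parity element

For a block `e` fixed by a coprime group `T` without fixed points on a group `D` of linear
characters, the graded lines of the stabilizer of `e` in `D` have a unique `T`-equivariant
multiplicative section `u` (up to the half commutator form).
-/

set_option autoImplicit false
set_option linter.unusedSectionVars false
set_option linter.style.haveILetI false

namespace CfsgLib.CharsMore.Parity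

open Module

section Powers

variable {A : Type*} [Ring A] [Algebra ℂ A] {x y : A} {c : ℂ}

theorem pow_mul_swap (h : x * y = c • (y * x)) (n : ℕ) : x ^ n * y = c ^ n • (y * x ^ n) := by
  induction n with
  | zero => simp
  | succ n ih =>
    rw [pow_succ, mul_assoc, h, mul_smul_comm, ← mul_assoc, ih, smul_mul_assoc, smul_smul,
      mul_assoc, pow_succ' c]

theorem mul_pow_swap (h : y * x = c • (x * y)) (n : ℕ) :
    (x * y) ^ n = c ^ n.choose 2 • (x ^ n * y ^ n) := by
  induction n with
  | zero => simp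
  | succ n ih =>
    have h2 : (n + 1).choose 2 = n.choose 2 + n := by
      rw [Nat.choose_succ_succ', Nat.choose_one_right, add_comm]
    rw [pow_succ (x * y), ih, smul_mul_assoc, mul_assoc, ← mul_assoc (y ^ n), pow_mul_swap h,
      smul_mul_assoc, mul_smul_comm, smul_smul, h2, pow_add, pow_succ x, pow_succ y]
    simp only [mul_assoc]

end Powers

variable {K : Type*} [Group K] [Fintype K]

/-- Linear characters of a finite group have values roots of unity. -/
theorem lin_pow_card (a : K →* ℂˣ) : a ^ Nat.card K = 1 := by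
  ext k
  rw [MonoidHom.pow_apply, ← map_pow, pow_card_eq_one', map_one]
  rfl

instance lin_finite : Finite (K →* ℂˣ) := by
  have hN : 0 < Nat.card K := Nat.card_pos
  haveI : NeZero (Nat.card K) := ⟨hN.ne'⟩
  let f : (K →* ℂˣ) → (K → rootsOfUnity (Nat.card K) ℂ) := fun a k =>
    ⟨a k, by
      rw [mem_rootsOfUnity, ← map_pow, pow_card_eq_one', map_one]⟩
  refine Finite.of_injective f fun a b h => ?_
  refine MonoidHom.ext fun k => ?_
  exact congrArg Subtype.val (congrFun h k)

/-- The action of an automorphism on linear characters. -/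
def act (α : K ≃* K) (a : K →* ℂˣ) : K →* ℂˣ := a.comp α.symm.toMonoidHom

@[simp] theorem act_apply (α : K ≃* K) (a : K →* ℂˣ) (k : K) : act α a k = a (α.symm k) := rfl

theorem act_mul (α : K ≃* K) (a b : K →* ℂˣ) : act α (a * b) = act α a * act α b := rfl

@[simp] theorem act_one (α : K ≃* K) : act α (1 : K →* ℂˣ) = 1 := rfl

theorem act_act (α β : MulAut K) (a : K →* ℂˣ) : act α (act β a) = act (α * β) a := rfl

theorem act_symm_self (α : K ≃* K) (a : K →* ℂˣ) : act α.symm (act α a) = a := by
  ext k; simp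

theorem act_self_symm (α : K ≃* K) (a : K →* ℂˣ) : act α (act α.symm a) = a := by
  ext k; simp

theorem mapA_injective (α : K ≃* K) : Function.Injective (mapA α.toMonoidHom : GA K → GA K) :=
  (mapE α).injective

theorem mapA_symm_self (α : K ≃* K) (y : GA K) :
    mapA α.symm.toMonoidHom (mapA α.toMonoidHom y) = y := (mapE α).symm_apply_apply y

theorem mapA_self_symm (α : K ≃* K) (y : GA K) :
    mapA α.toMonoidHom (mapA α.symm.toMonoidHom y) = y := (mapE α).apply_symm_apply y

theorem InLine.mapA {e x : GA K} {a : K →* ℂˣ} (hx : InLine e a x) (α : K ≃* K) :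
    InLine (Parity.mapA α.toMonoidHom e) (act α a) (Parity.mapA α.toMonoidHom x) := by
  refine ⟨by rw [← map_mul, hx.1], fun k => ?_⟩
  have h := congrArg (Parity.mapA α.toMonoidHom) (hx.2 (α.symm k))
  rw [map_mul, map_smul, map_mul, mapA_gen] at h
  simpa using h

/-- A lift of a twist: an element of the line with `N`-th power the block. -/
def IsLift (e : GA K) (a : K →* ℂˣ) (x : GA K) : Prop :=
  InLine e a x ∧ x ^ Nat.card K = e

variable {e : GA K} {a b : K →* ℂˣ} {x y : GA K}

theorem pow_mul_block (hx : x * e = x) {n : ℕ} (hn : n ≠ 0) :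
    x ^ n * e = x ^ n := by
  obtain ⟨m, rfl⟩ := Nat.exists_eq_succ_of_ne_zero hn
  rw [pow_succ, mul_assoc, hx]

/-- The inverse of a lift in the block. -/
theorem IsLift.exists_inv (he : IsBlock e) (hx : IsLift e a x) :
    ∃ y, InLine e a⁻¹ y ∧ x * y = e ∧ y * x = e := by
  have hN : 0 < Nat.card K := Nat.card_pos
  refine ⟨x ^ (Nat.card K - 1) * e, ?_, ?_, ?_⟩
  · have : a⁻¹ = a ^ (Nat.card K - 1) := by
      refine ((eq_inv_of_mul_eq_one_left (G := K →* ℂˣ) ?_).symm)
      rw [show a ^ (Nat.card K - 1) * a = a ^ (Nat.card K - 1 + 1) from (pow_succ a _).symm,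
        Nat.sub_add_cancel hN, lin_pow_card]
    rw [this]
    exact hx.1.pow he _
  · rw [← mul_assoc, ← pow_succ', Nat.sub_add_cancel hN, hx.2, he.idem]
  · rw [mul_assoc, he.comm, hx.1.1, ← pow_succ, Nat.sub_add_cancel hN, hx.2]

theorem exists_lift (he : IsBlock e) (ha : twist a e = e) : ∃ x, IsLift e a x := by
  obtain ⟨x, y, hx, hyx, hxy⟩ := exists_line he ha
  have hN : Nat.card K ≠ 0 := Nat.card_pos.ne'
  have h1 := hx.pow he (Nat.card K)
  rw [lin_pow_card, pow_mul_block hx.1 hN] at h1
  obtain ⟨c, hc⟩ := h1.scalar he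
  have hc0 : c ≠ 0 := by
    intro h0
    have hcomm : Commute x y := hxy.trans hyx.symm
    have h2 : (x * y) ^ Nat.card K = x ^ Nat.card K * y ^ Nat.card K := hcomm.mul_pow _
    rw [hxy, hc, h0, zero_smul, zero_mul, ← Nat.sub_add_cancel (Nat.pos_of_ne_zero hN)] at h2
    have he' : ∀ n : ℕ, e ^ (n + 1) = e := by
      intro n; induction n with
      | zero => simp
      | succ n ih => rw [pow_succ, ih, he.idem]
    rw [he'] at h2
    exact he.ne_zero h2
  obtain ⟨z, hz⟩ := IsAlgClosed.exists_pow_nat_eq c⁻¹ (Nat.pos_of_ne_zero hN)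
  refine ⟨z • x, hx.smul z, ?_⟩
  rw [smul_pow, hz, hc, smul_smul, inv_mul_cancel₀ hc0, one_smul]

/-- An invertible element of a graded line. -/
def Good (e : GA K) (a : K →* ℂˣ) (x : GA K) : Prop :=
  InLine e a x ∧ ∃ y, InLine e a⁻¹ y ∧ x * y = e ∧ y * x = e

theorem IsLift.good (he : IsBlock e) (hx : IsLift e a x) : Good e a x := ⟨hx.1, hx.exists_inv he⟩

theorem InLine.block_mul (he : IsBlock e) (hx : InLine e a x) : e * x = x := by
  rw [he.comm, hx.1]

theorem good_one (he : IsBlock e) : Good e 1 e := by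
  refine ⟨inLine_one he, e, ?_, he.idem, he.idem⟩
  rw [show ((1 : K →* ℂˣ))⁻¹ = 1 from inv_one (G := K →* ℂˣ)]
  exact inLine_one he

theorem Good.mul (he : IsBlock e) (hx : Good e a x) (hy : Good e b y) :
    Good e (a * b) (x * y) := by
  obtain ⟨x', hx', hxx, hx'x⟩ := hx.2
  obtain ⟨y', hy', hyy, hy'y⟩ := hy.2
  refine ⟨hx.1.mul he hy.1, y' * x', ?_, ?_, ?_⟩
  · rw [show (a * b)⁻¹ = b⁻¹ * a⁻¹ from mul_inv_rev a b]
    exact hy'.mul he hx'
  · rw [mul_assoc, ← mul_assoc y, hyy, ← mul_assoc, hx.1.1, hxx]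
  · rw [mul_assoc, ← mul_assoc x', hx'x, ← mul_assoc, hy'.1, hy'y]

theorem Good.ne_zero (he : IsBlock e) (hx : Good e a x) : x ≠ 0 := by
  intro h0
  obtain ⟨x', _, hxx, _⟩ := hx.2
  rw [h0, zero_mul] at hxx
  exact he.ne_zero hxx.symm

theorem Good.mapA (hx : Good e a x) (α : K ≃* K) :
    Good (Parity.mapA α.toMonoidHom e) (act α a) (Parity.mapA α.toMonoidHom x) := by
  obtain ⟨x', hx', hxx, hx'x⟩ := hx.2
  refine ⟨hx.1.mapA α, Parity.mapA α.toMonoidHom x', hx'.mapA α, ?_, ?_⟩
  · rw [← map_mul, hxx]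
  · rw [← map_mul, hx'x]

/-- Lines are one-dimensional. -/
theorem InLine.eq_smul (he : IsBlock e) (hy : InLine e a y) (hx : Good e a x) :
    ∃ c : ℂ, y = c • x := by
  obtain ⟨x', hx', hxx, _⟩ := hx.2
  have h1 := hx'.mul he hy
  rw [show a⁻¹ * a = 1 from inv_mul_cancel a] at h1
  obtain ⟨c, hc⟩ := h1.scalar he
  refine ⟨c, ?_⟩
  rw [← hy.block_mul he, ← hxx, mul_assoc, hc, mul_smul_comm, hx.1.1]

theorem IsLift.ne_zero (he : IsBlock e) (hx : IsLift e a x) : x ≠ 0 := (hx.good he).ne_zero he

theorem twist_act {α : K ≃* K} (ha : twist a e = e) :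
    twist (act α a) (mapA α.toMonoidHom e) = mapA α.toMonoidHom e := by
  show twist (a.comp α.symm.toMonoidHom) _ = _
  rw [← mapA_twist, ha]

theorem twist_mul_eq (ha : twist a e = e) (hb : twist b e = e) : twist (a * b) e = e := by
  rw [← twist_twist, hb, ha]

/-- The commutator form on the stabilizer of a block. -/
noncomputable def om (e : GA K) (a b : K →* ℂˣ) : ℂ :=
  Classical.epsilon fun c : ℂ => ∀ x y, InLine e a x → InLine e b y → x * y = c • (y * x)

theorem om_spec (he : IsBlock e) (ha : twist a e = e) (hb : twist b e = e) (hx : InLine e a x)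
    (hy : InLine e b y) : x * y = om e a b • (y * x) := by
  have hex : ∃ c : ℂ, ∀ x y, InLine e a x → InLine e b y → x * y = c • (y * x) := by
    obtain ⟨x0, hx0⟩ := exists_lift he ha
    obtain ⟨y0, hy0⟩ := exists_lift he hb
    have hg := (hy0.good he).mul he (hx0.good he)
    rw [mul_comm b a] at hg
    obtain ⟨c, hc⟩ := ((hx0.1).mul he hy0.1).eq_smul he hg
    refine ⟨c, fun x y hx hy => ?_⟩
    obtain ⟨p, rfl⟩ := hx.eq_smul he (hx0.good he)
    obtain ⟨q, rfl⟩ := hy.eq_smul he (hy0.good he)
    simp only [smul_mul_smul_comm, hc, smul_smul]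
    congr 1
    ring
  exact Classical.epsilon_spec hex x y hx hy

theorem om_eq (he : IsBlock e) (ha : twist a e = e) (hb : twist b e = e) (hx : Good e a x)
    (hy : Good e b y) {c : ℂ} (h : x * y = c • (y * x)) : om e a b = c :=
  smul_left_injective ℂ ((hy.mul he hx).ne_zero he) ((om_spec he ha hb hx.1 hy.1).symm.trans h)

theorem om_mul_left {a' : K →* ℂˣ} (he : IsBlock e) (ha : twist a e = e) (ha' : twist a' e = e)
    (hb : twist b e = e) : om e (a * a') b = om e a b * om e a' b := by
  obtain ⟨x, hx⟩ := exists_lift he ha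
  obtain ⟨x', hx'⟩ := exists_lift he ha'
  obtain ⟨y, hy⟩ := exists_lift he hb
  refine om_eq he (twist_mul_eq ha ha') hb ((hx.good he).mul he (hx'.good he)) (hy.good he) ?_
  rw [mul_assoc, om_spec he ha' hb hx'.1 hy.1, mul_smul_comm, ← mul_assoc,
    om_spec he ha hb hx.1 hy.1, smul_mul_assoc, smul_smul, mul_assoc, mul_comm (om e a' b)]

theorem om_swap (he : IsBlock e) (ha : twist a e = e) (hb : twist b e = e) :
    om e a b * om e b a = 1 := by
  obtain ⟨x, hx⟩ := exists_lift he ha
  obtain ⟨y, hy⟩ := exists_lift he hb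
  have h := om_spec he ha hb hx.1 hy.1
  rw [om_spec he hb ha hy.1 hx.1, smul_smul] at h
  refine smul_left_injective ℂ (((hx.good he).mul he (hy.good he)).ne_zero he) ?_
  simp only [one_smul]
  exact h.symm

theorem om_self (he : IsBlock e) (ha : twist a e = e) : om e a a = 1 := by
  obtain ⟨x, hx⟩ := exists_lift he ha
  exact om_eq he ha ha (hx.good he) (hx.good he) (one_smul ℂ _).symm

theorem om_ne_zero (he : IsBlock e) (ha : twist a e = e) (hb : twist b e = e) :
    om e a b ≠ 0 := left_ne_zero_of_mul_eq_one (om_swap he ha hb)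

theorem om_mapA (he : IsBlock e) (ha : twist a e = e) (hb : twist b e = e) (α : K ≃* K) :
    om (mapA α.toMonoidHom e) (act α a) (act α b) = om e a b := by
  obtain ⟨x, hx⟩ := exists_lift he ha
  obtain ⟨y, hy⟩ := exists_lift he hb
  refine om_eq (he.mapA α) (twist_act ha) (twist_act hb) ((hx.good he).mapA α)
    ((hy.good he).mapA α) ?_
  rw [← map_mul, om_spec he ha hb hx.1 hy.1, map_smul, map_mul]

theorem twist_pow_eq (ha : twist a e = e) : ∀ n : ℕ, twist (a ^ n) e = e
  | 0 => by rw [show a ^ 0 = 1 from pow_zero a, twist_one]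
  | n + 1 => by rw [show a ^ (n + 1) = a ^ n * a from pow_succ a n]; exact twist_mul_eq (twist_pow_eq ha n) ha

theorem om_one_left (he : IsBlock e) (hb : twist b e = e) : om e 1 b = 1 := by
  have h := om_mul_left he (a := 1) (a' := 1) (twist_one e) (twist_one e) hb
  rw [show (1 : K →* ℂˣ) * 1 = 1 from one_mul (M := K →* ℂˣ) 1] at h
  exact (mul_eq_left₀ (om_ne_zero he (twist_one e) hb)).1 h.symm

theorem om_pow_card (he : IsBlock e) (ha : twist a e = e) (hb : twist b e = e) :
    om e a b ^ Nat.card K = 1 := by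
  have h : ∀ n : ℕ, om e (a ^ n) b = om e a b ^ n := by
    intro n
    induction n with
    | zero => rw [show a ^ 0 = 1 from pow_zero a, pow_zero, om_one_left he hb]
    | succ n ih =>
      rw [show a ^ (n + 1) = a ^ n * a from pow_succ a n,
        om_mul_left he (twist_pow_eq ha n) ha hb, ih, pow_succ]
  rw [← h, lin_pow_card, om_one_left he hb]

/-- The square root of the commutator form. -/
noncomputable def bet (e : GA K) (a b : K →* ℂˣ) : ℂ := om e a b ^ ((Nat.card K + 1) / 2)

theorem bet_mul_left {a' : K →* ℂˣ} (he : IsBlock e) (ha : twist a e = e) (ha' : twist a' e = e)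
    (hb : twist b e = e) : bet e (a * a') b = bet e a b * bet e a' b := by
  rw [bet, om_mul_left he ha ha' hb, mul_pow]; rfl

theorem bet_swap (he : IsBlock e) (ha : twist a e = e) (hb : twist b e = e) :
    bet e a b * bet e b a = 1 := by
  rw [bet, bet, ← mul_pow, om_swap he ha hb, one_pow]

theorem bet_self (he : IsBlock e) (ha : twist a e = e) : bet e a a = 1 := by
  rw [bet, om_self he ha, one_pow]

theorem bet_ne_zero (he : IsBlock e) (ha : twist a e = e) (hb : twist b e = e) :
    bet e a b ≠ 0 := left_ne_zero_of_mul_eq_one (bet_swap he ha hb)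

theorem bet_inv (he : IsBlock e) (ha : twist a e = e) (hb : twist b e = e) :
    bet e b a = (bet e a b)⁻¹ := eq_inv_of_mul_eq_one_right (bet_swap he ha hb)

theorem bet_mul_right {b' : K →* ℂˣ} (he : IsBlock e) (ha : twist a e = e) (hb : twist b e = e)
    (hb' : twist b' e = e) : bet e a (b * b') = bet e a b * bet e a b' := by
  rw [bet_inv he (twist_mul_eq hb hb') ha, bet_mul_left he hb hb' ha, mul_inv,
    ← bet_inv he hb ha, ← bet_inv he hb' ha]

theorem bet_one_left (he : IsBlock e) (hb : twist b e = e) : bet e 1 b = 1 := by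
  rw [bet, om_one_left he hb, one_pow]

theorem bet_one_right (he : IsBlock e) (ha : twist a e = e) : bet e a 1 = 1 := by
  rw [bet_inv he (twist_one e) ha, bet_one_left he ha, inv_one]

theorem bet_mapA (he : IsBlock e) (ha : twist a e = e) (hb : twist b e = e) (α : K ≃* K) :
    bet (mapA α.toMonoidHom e) (act α a) (act α b) = bet e a b := by
  rw [bet, om_mapA he ha hb α]; rfl

theorem bet_pow_card (he : IsBlock e) (ha : twist a e = e) (hb : twist b e = e) :
    bet e a b ^ Nat.card K = 1 := by
  rw [bet, ← pow_mul, mul_comm, pow_mul, om_pow_card he ha hb, one_pow]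

theorem bet_sq (he : IsBlock e) (hodd : Odd (Nat.card K)) (ha : twist a e = e)
    (hb : twist b e = e) : bet e a b * bet e a b = om e a b := by
  obtain ⟨m, hm⟩ := hodd
  rw [bet, ← pow_add, show (Nat.card K + 1) / 2 + (Nat.card K + 1) / 2 = Nat.card K + 1 by omega,
    pow_succ, om_pow_card he ha hb, one_mul]

end CfsgLib.CharsMore.Parity
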