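import Cfsg.Agent.Lib.CharsMore.Parity.Parts

/-!
# The parity map preserves inner products
-/

set_option autoImplicit false
set_option linter.unusedSectionVars false
set_option linter.style.haveILetI false

namespace CfsgLib.CharsMore.Parity

open Cfsg Module
open scoped ComplexConjugate

section Helpers

variable {G : Type*} [CommGroup G]

theorem cg_rad1 (x y a : G) : x * a⁻¹ = x * y * (y * a)⁻¹ := by
  simp [mul_inv_rev, mul_left_comm, mul_comm]

theorem cg_rad2 (x y a z : G) (h : y * z = 1) : x * a⁻¹ = x * z * (y * a⁻¹) := by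
  rw [mul_assoc, ← mul_assoc z, mul_comm z, h, one_mul]

theorem cg_rad3 (a y z : G) (h : y * z = 1) : a * a = a * z * (y * a) := by
  rw [mul_assoc, ← mul_assoc z, mul_comm z, h, one_mul]

theorem cg_rad4 (a : G) (q : ℕ) (h : a ^ (2 * q + 1) = 1) : a = (a * a) ^ (q + 1) := by
  rw [← pow_two, ← pow_mul, show 2 * (q + 1) = 2 * q + 1 + 1 by omega, pow_succ, h, one_mul]

end Helpers

variable {K₀ : Type*} [Group K₀]

theorem rad_alg1 (x y a : K₀ →* ℂˣ) : x * a⁻¹ = x * y * (y * a)⁻¹ := cg_rad1 (G := K₀ →* ℂˣ) x y a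

theorem rad_alg2 (x y a z : K₀ →* ℂˣ) (h : y * z = 1) : x * a⁻¹ = x * z * (y * a⁻¹) :=
  cg_rad2 (G := K₀ →* ℂˣ) x y a z h

theorem rad_alg3 (a y z : K₀ →* ℂˣ) (h : y * z = 1) : a * a = a * z * (y * a) :=
  cg_rad3 (G := K₀ →* ℂˣ) a y z h

theorem rad_alg4 (a : K₀ →* ℂˣ) (q : ℕ) (h : a ^ (2 * q + 1) = 1) : a = (a * a) ^ (q + 1) :=
  cg_rad4 (G := K₀ →* ℂˣ) a q h

namespace Setup

variable {G K L C S : Type*} [Group G] [Fintype G] [Group K] [Fintype K] [Group L] [Fintype L]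
  [Group C] [Fintype C] [Group S] [Fintype S]
variable (T : Setup G K L C S)

theorem sum_L (Q : K → ℂ) :
    (T.B.d.DF.card : ℂ) * ∑ l : L, Q (T.B.κ l) = ∑ ν ∈ T.B.d.DF, ∑ k : K, (ν k : ℂ) * Q k := by
  classical
  rw [Finset.sum_comm]
  simp only [← Finset.sum_mul, T.B.sum_char, ite_mul, zero_mul]
  rw [Finset.mul_sum, ← Finset.sum_filter]
  symm
  refine Finset.sum_bij' (fun k hk => Classical.choose (Finset.mem_filter.1 hk).2)
    (fun l _ => T.B.κ l) ?_ ?_ ?_ ?_ ?_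
  · exact fun _ _ => Finset.mem_univ _
  · exact fun l _ => Finset.mem_filter.2 ⟨Finset.mem_univ _, l, rfl⟩
  · intro k hk
    exact Classical.choose_spec (Finset.mem_filter.1 hk).2
  · intro l hl
    exact T.B.κ_inj (Classical.choose_spec (show ∃ y, T.B.κ y = T.B.κ l from ⟨l, rfl⟩))
  · intro k hk
    rw [Classical.choose_spec (Finset.mem_filter.1 hk).2]

theorem card_DF : (T.B.d.DF.card : ℂ) * Fintype.card L = Fintype.card K := by
  classical
  have h := T.sum_L fun _ => 1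
  simp only [Finset.sum_const, Finset.card_univ, nsmul_eq_mul, mul_one] at h
  rw [h, Finset.sum_eq_single 1]
  · simp
  · intro ν _ hne
    obtain ⟨k0, hk0⟩ : ∃ k, ν k ≠ 1 := by
      by_contra hcon
      exact hne (MonoidHom.ext fun k => not_not.1 fun hk => hcon ⟨k, hk⟩)
    have hshift : (ν k0 : ℂ) * ∑ k : K, (ν k : ℂ) = ∑ k : K, (ν k : ℂ) := by
      rw [Finset.mul_sum]
      exact Fintype.sum_equiv (Equiv.mulLeft k0) _ _ fun k => by simp
    by_contra h0
    exact hk0 (Units.val_eq_one.1 ((mul_eq_right₀ h0).1 hshift))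
  · exact fun h => absurd (Data.mem_DF.2 T.B.d.D.one_mem) h

variable {χ χ' : G → ℂ}

/-- Moving an element of `K` across the bilinear average. -/
theorem Phi_move (hχ : IsIrrCharacter G χ) (ν : K →* ℂˣ) (A B : GA G) (z : GA K) :
    T.Phi (fun k => (ν k : ℂ)) χ χ' A (mapA T.ι z * B) =
      T.Phi (fun k => (ν k : ℂ)) χ χ' (A * mapA T.ι (twist ν z)) B := by
  set Φ := T.Phi (fun k => (ν k : ℂ)) χ χ' with hΦ
  refine ext_gen (f := (Φ A).comp ((LinearMap.mulRight ℂ B).comp (mapA T.ι).toLinearMap))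
    (g := (Φ.flip B).comp ((LinearMap.mulLeft ℂ A).comp ((mapA T.ι).comp (twist ν)).toLinearMap))
    (fun i => ?_) z
  simp only [LinearMap.comp_apply, AlgHom.toLinearMap_apply, LinearMap.mulRight_apply,
    LinearMap.mulLeft_apply, AlgHom.comp_apply, LinearMap.flip_apply, twist_gen, map_smul,
    mapA_gen, mul_smul_comm, smul_eq_mul]
  rw [hΦ, Phi_apply, Phi_apply, Finset.mul_sum]
  refine Fintype.sum_equiv (Equiv.mulLeft i⁻¹) _ _ fun k => ?_
  rw [Equiv.coe_mulLeft, mul_assoc A, ← gen_mul, ← mul_assoc (gen (T.ι k⁻¹)), ← gen_mul, ← map_mul,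
    ← map_mul, mul_inv_cancel_left, mul_inv_rev, inv_inv, ← mul_assoc (ν i : ℂ)]
  congr 1
  rw [← Units.val_mul, ← map_mul, mul_inv_cancel_left]

/-- Inside a fixed block the twist is removed by conjugating with the section. -/
theorem Phi_block (hχ : IsIrrCharacter G χ) {e : GA K} (he : T.B.d.Fixed e) {a : K →* ℂˣ}
    (ha : a ∈ T.B.d.stab e) {A : GA G} (hA : A * mapA T.ι e = A) (B : GA G) :
    T.Phi (fun k => (a k : ℂ)) χ χ' A B =
      T.Phi 1 χ χ' (mapA T.ι (T.B.d.u e a) * A * mapA T.ι (T.B.d.u e a⁻¹)) B := by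
  rw [Phi_apply, Phi_apply]
  refine Finset.sum_congr rfl fun k _ => ?_
  rw [Pi.one_apply, one_mul, ← mul_assoc]
  congr 1
  have h1 := Data.twist_mul_block he ha (gen k)
  rw [twist_gen, smul_mul_assoc, ← he.blk.comm] at h1
  have h2 : (a k : ℂ) • (mapA T.ι e * gen (T.ι k)) =
      mapA T.ι (T.B.d.u e a⁻¹) * gen (T.ι k) * mapA T.ι (T.B.d.u e a) := by
    rw [← mapA_gen T.ι k, ← map_mul, ← map_smul, h1, map_mul, map_mul]
  calc (a k : ℂ) * ev χ (A * gen (T.ι k))
      = ev χ (A * ((a k : ℂ) • (mapA T.ι e * gen (T.ι k)))) := by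
        rw [mul_smul_comm, map_smul, smul_eq_mul, ← mul_assoc A, hA]
    _ = ev χ (A * mapA T.ι (T.B.d.u e a⁻¹) * gen (T.ι k) * mapA T.ι (T.B.d.u e a)) := by
        rw [h2, ← mul_assoc, ← mul_assoc]
    _ = _ := by rw [ev_mul_comm' hχ]; simp only [mul_assoc]

/-- The average over a coset, as a functional on `K`'s group algebra. -/
noncomputable def Ec (χ χ' : G → ℂ) (c : C) : GA K →ₗ[ℂ] ℂ :=
  ((T.Phi 1 χ χ').flip (gen (T.j c)⁻¹)).comp
    ((LinearMap.mulLeft ℂ (gen (T.j c))).comp (mapA T.ι).toLinearMap)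

theorem Ec_apply (c : C) (z : GA K) :
    T.Ec χ χ' c z = T.Phi 1 χ χ' (gen (T.j c) * mapA T.ι z) (gen (T.j c)⁻¹) := rfl

theorem Phi_move_one (hχ : IsIrrCharacter G χ) (A B : GA G) (i : K) :
    T.Phi 1 χ χ' A (gen (T.ι i) * B) = T.Phi 1 χ χ' (A * gen (T.ι i)) B := by
  have h := T.Phi_move (χ' := χ') hχ 1 A B (gen i)
  rw [twist_one, mapA_gen] at h
  exact h

theorem Ec_conj (hχ : IsIrrCharacter G χ) (hχ' : IsIrrCharacter G χ') (c : C) (i : K) (z : GA K) :
    T.Ec χ χ' c (gen i * z * gen i⁻¹) = T.Ec χ χ' c z := by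
  set P := T.ι (T.cj c i) with hP
  have hPc : P = T.j c * T.ι i * (T.j c)⁻¹ := T.hcj c i
  -- conjugate the whole average by `P`
  have h1 : ∀ A B : GA G, T.Phi 1 χ χ' A B = T.Phi 1 χ χ'
      (gen P * A * gen P⁻¹) (gen P * B * gen P⁻¹) := by
    intro A B
    rw [Phi_apply, Phi_apply]
    refine Fintype.sum_equiv (MulAut.conj (T.cj c i)).toEquiv _ _ fun k => ?_
    simp only [Pi.one_apply, one_mul, MulEquiv.toEquiv_eq_coe, EquivLike.coe_coe, MulAut.conj_apply,
      map_mul, map_inv, ← hP]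
    congr 1
    · conv_rhs => rw [mul_assoc (gen P * A), ← gen_mul, mul_assoc (gen P), ev_mul_comm' hχ,
        mul_assoc, ← gen_mul]
      congr 3
      group
    · conv_rhs => rw [← mul_assoc, ← mul_assoc, ← gen_mul, ev_mul_comm' hχ', ← mul_assoc, ← gen_mul]
      congr 3
      group
  have hmove : gen P * gen (T.j c)⁻¹ * gen P⁻¹ =
      gen (T.ι (T.cj c i * i⁻¹)) * gen (T.j c)⁻¹ := by
    rw [← gen_mul, ← gen_mul, ← gen_mul]
    congr 1
    rw [map_mul, map_inv, ← hP, hPc]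
    group
  rw [Ec_apply, Ec_apply]
  conv_rhs => rw [h1, hmove, T.Phi_move_one hχ]
  congr 2
  rw [map_mul, map_mul, mapA_gen, mapA_gen, mul_assoc (gen P * _), ← gen_mul, ← mul_assoc (gen P),
    ← gen_mul, ← mul_assoc (gen (T.j c)), ← mul_assoc (gen (T.j c)), ← gen_mul]
  congr 2
  · congr 1
    rw [hPc]; group
  · rw [map_mul, map_inv, ← hP]; group

theorem Ec_line (hχ : IsIrrCharacter G χ) (hχ' : IsIrrCharacter G χ') (c : C) {e z : GA K}
    {w : K →* ℂˣ} (hz : InLine e w z) (hw : w ≠ 1) : T.Ec χ χ' c z = 0 := by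
  obtain ⟨i, hi⟩ : ∃ k, w k ≠ 1 := by
    by_contra hcon
    exact hw (MonoidHom.ext fun k => not_not.1 fun hk => hcon ⟨k, hk⟩)
  have h := T.Ec_conj hχ hχ' c i z
  rw [hz.2, smul_mul_assoc, mul_assoc, ← gen_mul, mul_inv_cancel, gen_one, mul_one, map_smul,
    smul_eq_mul] at h
  by_contra h0
  exact hi (Units.val_eq_one.1 ((mul_eq_right₀ h0).1 h))

theorem Ec_block_ne (hχ : IsIrrCharacter G χ) (c : C) {e : GA K} (he : IsBlock e)
    (hne : mapA (T.cj c).toMonoidHom e ≠ e) : T.Ec χ χ' c e = 0 := by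
  have hcomm : ∀ A B : GA G, T.Phi 1 χ χ' (mapA T.ι e * A) B = T.Phi 1 χ χ' (A * mapA T.ι e) B := by
    intro A B
    rw [Phi_apply, Phi_apply]
    refine Finset.sum_congr rfl fun k _ => ?_
    rw [mul_assoc (mapA T.ι e), ev_mul_comm' hχ (mapA T.ι e), mul_assoc, mul_assoc A,
      ← mapA_gen T.ι k, ← map_mul, ← map_mul, he.comm]
  rw [Ec_apply]
  conv_lhs => rw [← he.idem, map_mul (mapA T.ι) e e, ← mul_assoc, ← hcomm, ← mul_assoc]
  have h0 : e * mapA (T.cj c).toMonoidHom e = 0 := he.mul_eq_zero (he.mapA (T.cj c)) hne.symm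
  rw [mul_assoc (mapA T.ι e), mapA_conj T.ι T.j T.cj T.hcj c e, ← mul_assoc, ← map_mul, h0,
    map_zero, zero_mul, map_zero, LinearMap.zero_apply]

theorem mem_rad_of_act (c : C) {e : GA K} (he : T.B.d.Fixed e)
    (hce : mapA (T.cj c).toMonoidHom e = e) {a : K →* ℂˣ} (ha : a ∈ T.B.d.stab e)
    (h : T.B.d.InRad e (act (T.cj c) a * a)) : T.B.d.InRad e a := by
  set α := T.cj c with hα
  have hA : ∀ {x}, T.B.d.InRad e x → T.B.d.InRad e (act α x) := fun {x} hx => by
    have := Data.inRad_map he (T.compat c) hx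
    rwa [hce] at this
  have hone := Data.InRad.one (d := T.B.d) he.blk
  -- iterate twice
  have h2 : T.B.d.InRad e (act α (act α a) * a⁻¹) := by
    have h3 := (hA h).mul he.blk (h.inv he.blk)
    rw [act_mul] at h3
    convert h3 using 1
    exact rad_alg1 (act α (act α a)) (act α a) a
  have heven : ∀ m : ℕ, T.B.d.InRad e (act (α ^ (2 * m)) a * a⁻¹) := by
    intro m
    induction m with
    | zero =>
      rw [mul_zero, pow_zero, show act (1 : MulAut K) a = a from rfl,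
        show a * a⁻¹ = 1 from mul_inv_cancel a]
      exact hone
    | succ m ih =>
      have h4 := (hA (hA ih)).mul he.blk h2
      rw [act_mul, act_mul, act_act, act_act] at h4
      convert h4 using 1
      rw [show α ^ (2 * (m + 1)) = α * (α * α ^ (2 * m)) by
        rw [← mul_assoc, ← pow_two, ← pow_add]; congr 1; omega]
      exact rad_alg2 _ (act α (act α a)) a (act α (act α a⁻¹)) (by
        rw [← act_mul, ← act_mul, show a * a⁻¹ = 1 from mul_inv_cancel a, act_one, act_one])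
  obtain ⟨m, hm⟩ := T.oddC
  have hαN : α * α ^ (2 * m) = 1 := by
    rw [hα, ← pow_succ', ← hm, ← map_pow, pow_card_eq_one', map_one]
  have h5 := ((hA (heven m)).mul he.blk h)
  rw [act_mul, act_act, hαN, show act (1 : MulAut K) a = a from rfl] at h5
  have h6 : T.B.d.InRad e (a * a) := by
    convert h5 using 1
    exact rad_alg3 a (act α a) (act α a⁻¹) (by
      rw [← act_mul, show a * a⁻¹ = 1 from mul_inv_cancel a, act_one])
  obtain ⟨q, hq⟩ := T.B.d.odd
  have h7 : ∀ n : ℕ, T.B.d.InRad e ((a * a) ^ n) := by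
    intro n
    induction n with
    | zero => rw [show (a * a) ^ 0 = 1 from pow_zero (M := K →* ℂˣ) (a * a)]; exact hone
    | succ n ih => rw [show (a * a) ^ (n + 1) = (a * a) ^ n * (a * a) from pow_succ (M := K →* ℂˣ) (a * a) n]; exact ih.mul he.blk h6
  convert h7 (q + 1) using 1
  exact rad_alg4 a q (by rw [← hq]; exact lin_pow_card a)

theorem Ec_E (hχ : IsIrrCharacter G χ) (hχ' : IsIrrCharacter G χ') (c : C) {e : GA K}
    (he : T.B.d.Fixed e) {y : K →* ℂˣ} (hy : y ∈ T.B.d.stab e) :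
    (T.B.d.InRad e y → T.Ec χ χ' c (T.B.d.E e * T.B.d.u e y) =
      ((T.B.d.radF e).card : ℂ)⁻¹ * T.Ec χ χ' c e) ∧
    (¬ T.B.d.InRad e y → T.Ec χ χ' c (T.B.d.E e * T.B.d.u e y) = 0) := by
  classical
  have hu := Data.isSection_u he
  have key : T.Ec χ χ' c (T.B.d.E e * T.B.d.u e y) = ((T.B.d.radF e).card : ℂ)⁻¹ *
      ∑ x ∈ T.B.d.radF e, if x * y = 1 then T.Ec χ χ' c e else 0 := by
    rw [Data.E, smul_mul_assoc, map_smul, smul_eq_mul, Finset.sum_mul, map_sum]
    congr 1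
    refine Finset.sum_congr rfl fun x hx => ?_
    rw [Data.mem_radF] at hx
    rw [hu.mul x hx.1 y hy, hx.left he.blk hy, one_smul]
    split_ifs with h
    · rw [h, hu.one]
    · exact T.Ec_line hχ hχ' c (hu.line _ ((T.B.d.stab e).mul_mem hx.1 hy)) h
  refine ⟨fun hr => ?_, fun hr => ?_⟩
  · rw [key, Finset.sum_eq_single y⁻¹, if_pos (inv_mul_cancel y)]
    · exact fun x _ hne => if_neg fun h => hne (eq_inv_of_mul_eq_one_left (G := K →* ℂˣ) h)
    · exact fun h => absurd (Data.mem_radF.2 (hr.inv he.blk)) h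
  · rw [key, Finset.sum_eq_zero, mul_zero]
    intro x hx
    refine if_neg fun h => hr ?_
    have := (Data.mem_radF.1 hx).inv he.blk
    rwa [show x⁻¹ = y from inv_eq_of_mul_eq_one_right (G := K →* ℂˣ) h] at this

end Setup

end CfsgLib.CharsMore.Parity
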