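import Cfsg.Agent.Lib.CharsMore.Parity.Inner
import Cfsg.Agent.Lib.Chars.Char

/-!
# The parity of a multiplicity is read off the parity map
-/

set_option autoImplicit false
set_option linter.unusedSectionVars false
set_option linter.style.haveILetI false

namespace CfsgLib.CharsMore.Parity

open Cfsg Module
open scoped ComplexConjugate

namespace Setup

variable {G K L C S : Type*} [Group G] [Fintype G] [Group K] [Fintype K] [Group L] [Fintype L]
  [Group C] [Fintype C] [Group S] [Fintype S]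
variable (T : Setup G K L C S)

/-- The kernel inside `H`. -/
noncomputable def iL : L →* T.H :=
  (T.ι.comp T.B.κ).codRestrict T.H fun l => (T.memH _).2 ⟨l, 1, by simp⟩

@[simp] theorem coe_iL (l : L) : (T.iL l : G) = T.ι (T.B.κ l) := rfl

/-- The complement inside `H`. -/
noncomputable def jH : C →* T.H :=
  T.j.codRestrict T.H fun c => (T.memH _).2 ⟨1, c, by simp⟩

@[simp] theorem coe_jH (c : C) : (T.jH c : G) = T.j c := rfl

theorem θ_mem (s : S) {h : G} (hh : h ∈ T.H) : T.θ s h ∈ T.H := by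
  obtain ⟨l, c, rfl⟩ := (T.memH _).1 hh
  exact (T.memH _).2 ⟨T.B.ψ s l, c, by rw [map_mul, T.fixC, ← T.hφ, T.B.equiv]⟩

/-- The action on `H`. -/
noncomputable def θH : S →* MulAut T.H where
  toFun s :=
    { toFun := fun h => ⟨T.θ s h, T.θ_mem s h.2⟩
      invFun := fun h => ⟨T.θ s⁻¹ h, T.θ_mem s⁻¹ h.2⟩
      left_inv := fun h => Subtype.ext (by
        show T.θ s⁻¹ (T.θ s h) = h
        rw [map_inv]; exact (T.θ s).symm_apply_apply _)
      right_inv := fun h => Subtype.ext (by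
        show T.θ s (T.θ s⁻¹ h) = h
        rw [map_inv]; exact (T.θ s).apply_symm_apply _)
      map_mul' := fun h h' => Subtype.ext (map_mul (T.θ s) (h : G) (h' : G)) }
  map_one' := MulEquiv.ext fun h => Subtype.ext (by simp)
  map_mul' s t := MulEquiv.ext fun h => Subtype.ext (by simp)

@[simp] theorem coe_θH (s : S) (h : T.H) : (T.θH s h : G) = T.θ s h := rfl

theorem hclH (c : C) (l : L) : T.iL (T.cl c l) = T.jH c * T.iL l * (T.jH c)⁻¹ :=
  Subtype.ext (by simp [T.hcl, T.hcj])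

theorem hgenH (h : T.H) : ∃ l c, h = T.iL l * T.jH c := by
  obtain ⟨l, c, hlc⟩ := (T.memH _).1 h.2
  exact ⟨l, c, Subtype.ext (by simpa using hlc)⟩

theorem hψH (s : S) (l : L) : T.iL (T.B.ψ s l) = T.θH s (T.iL l) :=
  Subtype.ext (by simp [T.B.equiv, T.hφ])

theorem cl_comm (c : C) (s : S) : Commute (T.cl c) (T.B.ψ s) := by
  refine MulEquiv.ext fun l => T.B.κ_inj ?_
  rw [MulAut.mul_apply, MulAut.mul_apply, T.hcl, T.B.equiv, T.B.equiv, T.hcl, ← MulAut.mul_apply,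
    ← MulAut.mul_apply, ((T.compat c).comm s).eq]

/-- Invariance of a function on `G`. -/
def InvG (χ : G → ℂ) : Prop := ∀ s g, χ (T.θ s g) = χ g

/-- Invariance of a function on `H`. -/
def InvH (ψ : T.H → ℂ) : Prop := ∀ s h, ψ (T.θH s h) = ψ h

/-- The fixed blocks of the kernel, summed, in the group algebra of `H`. -/
noncomputable def FL : GA L := ∑ f ∈ fixedBlocks T.B.ψ, f

theorem asAlgebraHom_sum_Th {n : ℕ} (ρ : Representation ℂ G (Fin n → ℂ)) (hA : T.Adm ρ.character) :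
    ρ.asAlgebraHom (mapA T.ι (∑ e ∈ T.Th, e)) = 1 := by
  set z := ∑ e ∈ T.Th, e with hz
  have hzz : z * z = z := by
    rw [hz, Finset.sum_mul]
    refine Finset.sum_congr rfl fun e he => ?_
    rw [Finset.mul_sum, Finset.sum_eq_single e]
    · exact (T.mem_Th.1 he).blk.idem
    · exact fun e' he' hne => (T.mem_Th.1 he).blk.mul_eq_zero (T.mem_Th.1 he').blk hne.symm
    · exact fun h => absurd he h
  set A := ρ.asAlgebraHom (mapA T.ι z) with hAdef
  have hAA : A * A = A := by rw [hAdef, ← map_mul, ← map_mul, hzz]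
  have h1 : (1 - A) * (1 - A) = 1 - A := by
    rw [sub_mul, one_mul, mul_sub, mul_one, hAA, sub_self, sub_zero]
  have h2 : LinearMap.trace ℂ _ (1 - A) = 0 := by
    have h3 := hA 1
    rw [one_mul, ev_character, ev_character, map_one, ← hAdef] at h3
    rw [map_sub, h3, sub_self]
  exact (sub_eq_zero.1 ((trace_idem_eq_zero h1).1 h2)).symm

theorem adm_of_asAlgebraHom {n : ℕ} (ρ : Representation ℂ G (Fin n → ℂ))
    (h : ρ.asAlgebraHom (mapA T.ι (∑ e ∈ T.Th, e)) = 1) : T.Adm ρ.character := fun y => by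
  rw [ev_character, ev_character, map_mul, h, mul_one]

theorem adm_of_inv {χ : G → ℂ} (hχ : IsIrrCharacter G χ) (hinv : T.InvG χ) : T.Adm χ := by
  obtain ⟨n, ρ, hρ, rfl⟩ := hχ
  haveI := hρ
  exact T.adm_of_asAlgebraHom ρ (asAlgebraHom_sum_fixedBlocks T.ι T.j T.cj T.B.d.φ T.θ T.hcj T.hgen
    T.hφ (fun c s => (T.compat c).comm s) T.copC ρ hinv)

theorem FL_annihilates {n : ℕ} (ρ : Representation ℂ G (Fin n → ℂ)) (hA : T.Adm ρ.character) :
    ρ.asAlgebraHom (mapA T.ι (mapA T.B.κ T.FL)) * (1 - T.P ρ * T.P ρ) = 0 := by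
  have h : mapA T.B.κ T.FL * ((∑ e ∈ T.Th, e) - T.pi * T.pi) = 0 := by
    rw [mul_sub, T.pi_sq, sub_eq_zero, Finset.mul_sum, Finset.mul_sum]
    refine Finset.sum_congr rfl fun e he => ?_
    rw [FL, map_sum, Finset.sum_mul, Finset.sum_mul]
    refine Finset.sum_congr rfl fun f hf => (Base.mul_E_eq ⟨(mem_fixedBlocks.1 hf).1, (mem_fixedBlocks.1 hf).2⟩
      (T.mem_Th.1 he)).symm
  rw [← T.asAlgebraHom_sum_Th ρ hA, P, Pi, ← map_mul ρ.asAlgebraHom, ← map_mul (mapA T.ι),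
    ← map_sub ρ.asAlgebraHom, ← map_sub (mapA T.ι), ← map_mul, ← map_mul, h, map_zero, map_zero]

variable [Fintype T.H]

theorem ev_FL {ψ : T.H → ℂ} (hψ : IsIrrCharacter T.H ψ) (hinv : T.InvH ψ) (y : GA T.H) :
    ev ψ (y * mapA T.iL T.FL) = ev ψ y := by
  obtain ⟨n, σ, hσ, rfl⟩ := hψ
  haveI := hσ
  rw [ev_character, ev_character, map_mul, FL,
    asAlgebraHom_sum_fixedBlocks T.iL T.jH T.cl T.B.ψ T.θH T.hclH T.hgenH T.hψH T.cl_comm T.copC σ
      hinv, mul_one]

theorem inner_zero_part {χ : G → ℂ} {n : ℕ} (ρ : Representation ℂ G (Fin n → ℂ))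
    (hρ : ρ.character = χ) (hA : T.Adm χ) {ψ : T.H → ℂ} (hψ : IsIrrCharacter T.H ψ)
    (hinv : T.InvH ψ) :
    classInner (fun h : T.H => LinearMap.trace ℂ _ (ρ h * (1 - T.P ρ * T.P ρ))) ψ = 0 := by
  subst hρ
  set A := 1 - T.P ρ * T.P ρ with hAdef
  set X : T.H → ℂ := fun h => LinearMap.trace ℂ _ (ρ h * A) with hX
  have hAc : ∀ h : T.H, ρ h * A = A * ρ h := fun h => by
    rw [hAdef, mul_sub, sub_mul, mul_one, one_mul, ← mul_assoc, T.P_comm, mul_assoc, T.P_comm,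
      ← mul_assoc]
  have key : ∀ z : GA L, ∑ h : T.H, X h * ev ψ (gen h⁻¹ * mapA T.iL z) =
      ∑ h : T.H, LinearMap.trace ℂ _ (ρ.asAlgebraHom (mapA T.ι (mapA T.B.κ z)) * (ρ h * A)) *
        ψ h⁻¹ := by
    intro z
    rw [eq_sum z]
    simp only [map_sum, map_smul, mapA_gen, Finset.mul_sum, mul_smul_comm, smul_eq_mul, Finset.sum_mul,
      smul_mul_assoc]
    rw [Finset.sum_comm]
    conv_rhs => rw [Finset.sum_comm]
    refine Finset.sum_congr rfl fun l _ => ?_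
    refine Fintype.sum_equiv (Equiv.mulLeft (T.iL l)⁻¹) _ _ fun h => ?_
    rw [← gen_mul, ev_gen, asAlgebraHom_gen, hX, ← mul_assoc (ρ _) (ρ _), ← map_mul ρ,
      Equiv.coe_mulLeft, Subgroup.coe_mul, Subgroup.coe_inv, coe_iL, mul_inv_cancel_left,
      mul_inv_rev, inv_inv]
    ring
  rw [Chars.inner_def]
  refine mul_eq_zero_of_right _ ?_
  rw [Finset.sum_congr rfl fun h _ => (show X h * conj (ψ h) =
    X h * ev ψ (gen h⁻¹ * mapA T.iL T.FL) by
      rw [T.ev_FL hψ hinv, ev_gen]; exact congrArg (X h * ·) (Chars.irr_inv ⟨ψ, hψ⟩ h).symm), key]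
  refine Finset.sum_eq_zero fun h _ => ?_
  rw [hAc, ← mul_assoc, hAdef, T.FL_annihilates ρ hA, zero_mul, map_zero, zero_mul]

/-- The multiplicity and the parity map differ by an even number. -/
theorem parity {χ : G → ℂ} (hχ : IsIrrCharacter G χ) (hA : T.Adm χ) {ψ : T.H → ℂ}
    (hψ : IsIrrCharacter T.H ψ) (hinv : T.InvH ψ) :
    ∃ a b : ℕ, classInner (fun h : T.H => χ h) ψ = ((a + b : ℕ) : ℂ) ∧
      classInner (T.f χ) ψ = (a : ℂ) - b := by
  obtain ⟨n, ρ, hρ, rfl⟩ := hχ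
  obtain ⟨a, ha⟩ := Chars.inner_irr_right_nat (T.isCharacter_Xp ρ) ⟨ψ, hψ⟩
  obtain ⟨b, hb⟩ := Chars.inner_irr_right_nat (T.isCharacter_Xm ρ) ⟨ψ, hψ⟩
  refine ⟨a, b, ?_, ?_⟩
  · have hdec : (fun h : T.H => ρ.character h) = T.Xp ρ + T.Xm ρ +
        fun h : T.H => LinearMap.trace ℂ _ (ρ h * (1 - T.P ρ * T.P ρ)) := by
      funext h
      rw [Pi.add_apply, Pi.add_apply, Xp, Xm, ← map_add, ← map_add, ← mul_add, ← mul_add, Ap, Am]
      unfold Representation.character
      congr 1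
      conv_lhs => rw [← mul_one (ρ (h : G))]
      congr 1
      module
    rw [hdec, Chars.inner_add_left, Chars.inner_add_left, T.inner_zero_part ρ rfl hA hψ hinv,
      add_zero, ha, hb, Nat.cast_add]
  · rw [T.f_eq ρ, Chars.inner_sub_left, ha, hb]

end Setup

end CfsgLib.CharsMore.Parity
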