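import Cfsg.Agent.Lib.CharsMore.Parity.Setup

/-!
# The parity element gives a virtual character
-/

set_option autoImplicit false
set_option linter.unusedSectionVars false
set_option linter.style.haveILetI false

namespace CfsgLib.CharsMore.Parity

open Cfsg Module
open scoped ComplexConjugate

/-- An idempotent commuting with a subgroup cuts out a character. -/
theorem isCharacter_idem {G V : Type*} [Group G] [AddCommGroup V] [Module ℂ V]
    [FiniteDimensional ℂ V] (ρ : Representation ℂ G V) (H : Subgroup G) {A : Module.End ℂ V}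
    (hA : A * A = A) (hc : ∀ h : H, ρ h * A = A * ρ h) :
    IsCharacter H (fun h : H => LinearMap.trace ℂ V (ρ h * A)) := by
  let σ0 : Representation ℂ H V := ρ.comp H.subtype
  have hmem : ∀ (h : H) x, x ∈ LinearMap.range A → σ0 h x ∈ LinearMap.range A := by
    rintro h _ ⟨y, rfl⟩
    refine ⟨ρ h y, ?_⟩
    show (A * ρ h) y = (ρ h * A) y
    rw [hc]
  let σ : Representation ℂ H (LinearMap.range A) :=
    { toFun := fun h => (σ0 h).restrict (hmem h)
      map_one' := by ext x; simp [σ0]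
      map_mul' := fun h h' => by ext x; simp [σ0] }
  have hchar : σ.character = fun h : H => LinearMap.trace ℂ V (ρ h * A) := by
    funext h
    have hfix : ∀ x : LinearMap.range A, A (x : V) = x := fun x => (isProj_range hA).map_id x x.2
    have hmem' : ∀ x, (ρ h * A) x ∈ LinearMap.range A := fun x => by
      rw [hc]; exact LinearMap.mem_range_self A _
    rw [← LinearMap.trace_restrict_eq_of_forall_mem (LinearMap.range A) (ρ h * A) hmem']
    refine congrArg (LinearMap.trace ℂ _) (LinearMap.ext fun x => Subtype.ext ?_)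
    show ρ h x = ρ h (A x)
    rw [hfix]
  rw [← hchar]
  exact Chars.isCharacter_character σ

namespace Setup

variable {G K L C S : Type*} [Group G] [Fintype G] [Group K] [Fintype K] [Group L] [Fintype L]
  [Group C] [Fintype C] [Group S] [Fintype S]
variable (T : Setup G K L C S)

/-- The parity element in a representation. -/
noncomputable def P {V : Type*} [AddCommGroup V] [Module ℂ V] (ρ : Representation ℂ G V) :
    Module.End ℂ V := ρ.asAlgebraHom T.Pi

variable {V : Type*} [AddCommGroup V] [Module ℂ V] [FiniteDimensional ℂ V]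
  (ρ : Representation ℂ G V)

theorem P_comm (h : T.H) : ρ h * T.P ρ = T.P ρ * ρ h := by
  rw [P, ← asAlgebraHom_gen ρ (h : G), ← map_mul, ← map_mul, T.gen_H_Pi]

theorem P_cube : T.P ρ * T.P ρ * T.P ρ = T.P ρ := by
  rw [P, ← map_mul, ← map_mul, T.Pi_cube]

/-- The positive part. -/
noncomputable def Ap : Module.End ℂ V := (2 : ℂ)⁻¹ • (T.P ρ * T.P ρ + T.P ρ)

/-- The negative part. -/
noncomputable def Am : Module.End ℂ V := (2 : ℂ)⁻¹ • (T.P ρ * T.P ρ - T.P ρ)

theorem Ap_idem : T.Ap ρ * T.Ap ρ = T.Ap ρ := by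
  have h := T.P_cube ρ
  have h4 : T.P ρ * T.P ρ * (T.P ρ * T.P ρ) = T.P ρ * T.P ρ := by rw [← mul_assoc, h]
  rw [Ap, smul_mul_smul_comm, add_mul, mul_add, mul_add, h4, h, ← mul_assoc, h]
  module

theorem Am_idem : T.Am ρ * T.Am ρ = T.Am ρ := by
  have h := T.P_cube ρ
  have h4 : T.P ρ * T.P ρ * (T.P ρ * T.P ρ) = T.P ρ * T.P ρ := by rw [← mul_assoc, h]
  rw [Am, smul_mul_smul_comm, sub_mul, mul_sub, mul_sub, h4, h, ← mul_assoc, h]
  module

theorem Ap_comm (h : T.H) : ρ h * T.Ap ρ = T.Ap ρ * ρ h := by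
  rw [Ap, mul_smul_comm, smul_mul_assoc, mul_add, add_mul, ← mul_assoc, T.P_comm, mul_assoc,
    T.P_comm, ← mul_assoc]

theorem Am_comm (h : T.H) : ρ h * T.Am ρ = T.Am ρ * ρ h := by
  rw [Am, mul_smul_comm, smul_mul_assoc, mul_sub, sub_mul, ← mul_assoc, T.P_comm, mul_assoc,
    T.P_comm, ← mul_assoc]

/-- The positive character. -/
noncomputable def Xp : T.H → ℂ := fun h => LinearMap.trace ℂ V (ρ h * T.Ap ρ)

/-- The negative character. -/
noncomputable def Xm : T.H → ℂ := fun h => LinearMap.trace ℂ V (ρ h * T.Am ρ)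

theorem isCharacter_Xp : IsCharacter T.H (T.Xp ρ) :=
  isCharacter_idem ρ T.H (T.Ap_idem ρ) (T.Ap_comm ρ)

theorem isCharacter_Xm : IsCharacter T.H (T.Xm ρ) :=
  isCharacter_idem ρ T.H (T.Am_idem ρ) (T.Am_comm ρ)

theorem f_eq : T.f ρ.character = T.Xp ρ - T.Xm ρ := by
  funext h
  rw [f, ev_character, map_mul, asAlgebraHom_gen, Pi.sub_apply, Xp, Xm, ← map_sub, ← mul_sub]
  congr 2
  show T.P ρ = _
  rw [Ap, Am]
  module

theorem isGeneralized_f {χ : G → ℂ} (hχ : IsIrrCharacter G χ) :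
    IsGeneralizedCharacter T.H (T.f χ) := by
  obtain ⟨n, ρ, -, rfl⟩ := hχ
  exact ⟨_, _, T.isCharacter_Xp ρ, T.isCharacter_Xm ρ, T.f_eq ρ⟩

theorem f_inv {χ : G → ℂ} (hχ : IsIrrCharacter G χ) (h : T.H) :
    conj (T.f χ h) = T.f χ h⁻¹ := by
  obtain ⟨φ, φ', h1, h2, heq⟩ := T.isGeneralized_f hχ
  rw [heq, Pi.sub_apply, Pi.sub_apply, map_sub, Chars.char_inv h1, Chars.char_inv h2]

end Setup

end CfsgLib.CharsMore.Parity
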