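import Cfsg.Agent.Lib.CharsMore.Parity.Lifts

/-!
# The canonical equivariant section

The lifts of the stabilizer of a block form an abelian group of odd exponent under the Baer
product; averaging over a coprime group without fixed points gives the canonical section.
-/

set_option autoImplicit false
set_option linter.unusedSectionVars false
set_option linter.style.haveILetI false

namespace CfsgLib.CharsMore.Parity

open Module

variable {K S : Type*} [Group K] [Fintype K] [Group S] [Fintype S]

/-- A group of linear characters with a coprime fixed point free action. -/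
structure Data (K S : Type*) [Group K] [Group S] where
  D : Subgroup (K →* ℂˣ)
  φ : S →* MulAut K
  odd : Odd (Nat.card K)
  cop : (Nat.card K).Coprime (Nat.card S)
  actD : ∀ s, ∀ a ∈ D, act (φ s) a ∈ D
  noFix : ∀ a ∈ D, (∀ s, act (φ s) a = a) → a = 1

/-- The action on characters as a homomorphism. -/
def actHom (α : K ≃* K) : (K →* ℂˣ) →* (K →* ℂˣ) where
  toFun := act α
  map_one' := act_one α
  map_mul' := act_mul α

@[simp] theorem actHom_apply (α : K ≃* K) (a : K →* ℂˣ) : actHom α a = act α a := rfl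

theorem mapA_mul (α β : MulAut K) (y : GA K) :
    mapA α.toMonoidHom (mapA β.toMonoidHom y) = mapA (α * β).toMonoidHom y :=
  mapA_mapA _ _ y

namespace Data

variable (d : Data K S)

/-- A block fixed by the acting group. -/
structure Fixed (e : GA K) : Prop where
  blk : IsBlock e
  fix : ∀ s, mapA (d.φ s).toMonoidHom e = e

variable {d} {e : GA K}

theorem Fixed.twist_act (he : d.Fixed e) {a : K →* ℂˣ} (ha : twist a e = e) (s : S) :
    twist (act (d.φ s) a) e = e := by
  have h := Parity.twist_act (α := d.φ s) ha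
  rwa [he.fix] at h

theorem Fixed.bet_act (he : d.Fixed e) {a b : K →* ℂˣ} (ha : twist a e = e)
    (hb : twist b e = e) (s : S) : bet e (act (d.φ s) a) (act (d.φ s) b) = bet e a b := by
  conv_rhs => rw [← bet_mapA he.blk ha hb (d.φ s)]
  rw [he.fix]

variable (d) in
/-- The stabilizer of a block in the group of characters. -/
def stab (e : GA K) : Subgroup (K →* ℂˣ) where
  carrier := {a | a ∈ d.D ∧ twist a e = e}
  one_mem' := ⟨d.D.one_mem, twist_one e⟩
  mul_mem' ha hb := ⟨d.D.mul_mem ha.1 hb.1, twist_mul_eq ha.2 hb.2⟩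
  inv_mem' {a} ha := ⟨d.D.inv_mem ha.1, by
    conv_lhs => rw [← ha.2]
    rw [twist_twist, show a⁻¹ * a = 1 from inv_mul_cancel a, twist_one]⟩

theorem mem_stab {a : K →* ℂˣ} : a ∈ d.stab e ↔ a ∈ d.D ∧ twist a e = e := Iff.rfl

theorem Fixed.act_mem_stab (he : d.Fixed e) {a : K →* ℂˣ} (ha : a ∈ d.stab e) (s : S) :
    act (d.φ s) a ∈ d.stab e := ⟨d.actD s a ha.1, he.twist_act ha.2 s⟩

theorem prod_act_eq_one {a : K →* ℂˣ} (ha : a ∈ d.D) : ∏ s : S, act (d.φ s) a = 1 := by
  refine d.noFix _ (Subgroup.prod_mem _ fun s _ => d.actD s a ha) fun t => ?_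
  rw [← actHom_apply, map_prod]
  refine Fintype.prod_equiv (Equiv.mulLeft t) _ _ fun s => ?_
  rw [actHom_apply, act_act, ← map_mul, Equiv.coe_mulLeft]

theorem pow_eq_one_cancel (d : Data K S) {M : Type*} [Monoid M] {x : M}
    (h1 : x ^ Nat.card S = 1) (h2 : x ^ Nat.card K = 1) : x = 1 := by
  have := pow_gcd_eq_one.2 ⟨h2, h1⟩
  rwa [d.cop, pow_one] at this

/-- An invariant character of a subgroup of the character group is trivial. -/
theorem eq_one_of_invariant {A : Subgroup (K →* ℂˣ)} (hA : A ≤ d.D)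
    (hAct : ∀ a ∈ A, ∀ s, act (d.φ s) a ∈ A) {r : (K →* ℂˣ) → ℂ} (h1 : r 1 = 1)
    (hmul : ∀ a ∈ A, ∀ b ∈ A, r (a * b) = r a * r b)
    (hinv : ∀ a ∈ A, ∀ s, r (act (d.φ s) a) = r a) {a : K →* ℂˣ} (ha : a ∈ A) : r a = 1 := by
  classical
  have hprod : ∀ t : Finset S, r (∏ s ∈ t, act (d.φ s) a) = r a ^ t.card := by
    intro t
    induction t using Finset.induction_on with
    | empty => simp [h1]
    | insert s t hs ih =>
      rw [Finset.prod_insert hs, hmul _ (hAct a ha s) _ (Subgroup.prod_mem _ fun s _ => hAct a ha s),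
        hinv a ha, ih, Finset.card_insert_of_notMem hs, pow_succ']
  have hS : r a ^ Nat.card S = 1 := by
    rw [Nat.card_eq_fintype_card, ← Finset.card_univ, ← hprod, prod_act_eq_one (hA ha), h1]
  have hpow : ∀ n : ℕ, r (a ^ n) = r a ^ n := by
    intro n
    induction n with
    | zero => rw [show a ^ 0 = 1 from pow_zero a, h1, pow_zero]
    | succ n ih =>
      rw [show a ^ (n + 1) = a ^ n * a from pow_succ a n, hmul _ (A.pow_mem ha n) _ ha, ih,
        pow_succ]
  exact d.pow_eq_one_cancel hS (by rw [← hpow, lin_pow_card, h1])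

/-- The radical of the commutator form on the stabilizer. -/
def InRad (d : Data K S) (e : GA K) (x : K →* ℂˣ) : Prop :=
  x ∈ d.stab e ∧ ∀ a ∈ d.stab e, bet e a x = 1

/-- A multiplicative equivariant section of the graded lines. -/
structure IsSection (d : Data K S) (e : GA K) (u : (K →* ℂˣ) → GA K) : Prop where
  line : ∀ a ∈ d.stab e, InLine e a (u a)
  one : u 1 = e
  mul : ∀ a ∈ d.stab e, ∀ b ∈ d.stab e, u a * u b = bet e a b • u (a * b)
  equiv : ∀ a ∈ d.stab e, ∀ s, u (act (d.φ s) a) = mapA (d.φ s).toMonoidHom (u a)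

/-! ### The Baer group of lifts -/

section Baer

/-- A lift, with its character. -/
@[ext]
structure Lift (e : GA K) where
  a : K →* ℂˣ
  x : GA K
  stab : twist a e = e
  isLift : IsLift e a x

variable [he : Fact (IsBlock e)] [hodd : Fact (Odd (Nat.card K))]

theorem isLift_baer {a b : K →* ℂˣ} {x y : GA K} (ha : twist a e = e) (hb : twist b e = e)
    (hx : IsLift e a x) (hy : IsLift e b y) :
    IsLift e (a * b) ((bet e a b)⁻¹ • (x * y)) := by
  refine ⟨(hx.1.mul he.out hy.1).smul _, ?_⟩
  rw [smul_pow, inv_pow, bet_pow_card he.out ha hb, inv_one, one_smul,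
    mul_pow_swap (om_spec he.out hb ha hy.1 hx.1), hx.2, hy.2, he.out.idem]
  have hdvd : Nat.card K ∣ (Nat.card K).choose 2 := by
    obtain ⟨m, hm⟩ := hodd.out
    rw [Nat.choose_two_right, hm, show 2 * m + 1 - 1 = 2 * m from by omega,
      show (2 * m + 1) * (2 * m) = 2 * ((2 * m + 1) * m) from by ring,
      Nat.mul_div_cancel_left _ two_pos]
    exact dvd_mul_right _ _
  obtain ⟨q, hq⟩ := hdvd
  rw [hq, pow_mul, om_pow_card he.out hb ha, one_pow, one_smul]

noncomputable instance : Mul (Lift e) :=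
  ⟨fun p q => ⟨p.a * q.a, (bet e p.a q.a)⁻¹ • (p.x * q.x), twist_mul_eq p.stab q.stab,
    isLift_baer p.stab q.stab p.isLift q.isLift⟩⟩

noncomputable instance : One (Lift e) :=
  ⟨⟨1, e, twist_one e, inLine_one he.out, by
    obtain ⟨m, hm⟩ := hodd.out
    exact IsIdempotentElem.pow_eq (he.out.idem) (by omega)⟩⟩

theorem Lift.mul_a (p q : Lift e) : (p * q).a = p.a * q.a := rfl

theorem Lift.mul_x (p q : Lift e) : (p * q).x = (bet e p.a q.a)⁻¹ • (p.x * q.x) := rfl

theorem Lift.one_a : (1 : Lift e).a = 1 := rfl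

theorem Lift.one_x : (1 : Lift e).x = e := rfl

theorem Lift.one_mul' (p : Lift e) : 1 * p = p := by
  ext1
  · exact one_mul p.a
  · rw [Lift.mul_x, Lift.one_a, Lift.one_x, bet_one_left he.out p.stab,
      p.isLift.1.block_mul he.out, inv_one, one_smul]

theorem Lift.mul_comm' (p q : Lift e) : p * q = q * p := by
  ext1
  · exact mul_comm p.a q.a
  · rw [Lift.mul_x, Lift.mul_x, om_spec he.out p.stab q.stab p.isLift.1 q.isLift.1, smul_smul]
    congr 1
    rw [← bet_sq he.out hodd.out p.stab q.stab, ← mul_assoc,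
      inv_mul_cancel₀ (bet_ne_zero he.out p.stab q.stab), one_mul]
    exact (eq_inv_of_mul_eq_one_left (bet_swap he.out p.stab q.stab))

noncomputable instance : CommMonoid (Lift e) where
  mul_assoc p q r := by
    ext1
    · exact mul_assoc p.a q.a r.a
    · simp only [Lift.mul_x, Lift.mul_a, smul_mul_assoc, mul_smul_comm, smul_smul, mul_assoc,
        bet_mul_left he.out p.stab q.stab r.stab, bet_mul_right he.out p.stab q.stab r.stab]
      congr 1
      field_simp
  one_mul := Lift.one_mul'
  mul_one p := by rw [Lift.mul_comm', Lift.one_mul']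
  mul_comm := Lift.mul_comm'

theorem Lift.pow_a (p : Lift e) : ∀ n : ℕ, (p ^ n).a = p.a ^ n
  | 0 => by rw [pow_zero, Lift.one_a]; exact (pow_zero p.a).symm
  | n + 1 => by rw [pow_succ, Lift.mul_a, Lift.pow_a p n]; exact (pow_succ p.a n).symm

theorem Lift.pow_x (p : Lift e) {n : ℕ} (hn : n ≠ 0) : (p ^ n).x = p.x ^ n := by
  induction n with
  | zero => exact absurd rfl hn
  | succ n ih =>
    rcases Nat.eq_zero_or_pos n with rfl | hpos
    · simp
    · have hb : bet e (p.a ^ n) p.a = 1 := by
        clear ih hn hpos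
        induction n with
        | zero => rw [show p.a ^ 0 = 1 from pow_zero p.a, bet_one_left he.out p.stab]
        | succ n ih =>
          rw [show p.a ^ (n + 1) = p.a ^ n * p.a from pow_succ p.a n,
            bet_mul_left he.out (twist_pow_eq p.stab n) p.stab p.stab, ih,
            bet_self he.out p.stab, one_mul]
      rw [pow_succ, Lift.mul_x, Lift.pow_a, hb, inv_one, one_smul, ih hpos.ne', ← pow_succ]

theorem Lift.pow_card_eq_one (p : Lift e) : p ^ Nat.card K = 1 := by
  ext1
  · rw [Lift.pow_a, lin_pow_card, Lift.one_a]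
  · rw [Lift.pow_x p Nat.card_pos.ne', p.isLift.2, Lift.one_x]

theorem Lift.prod_a {ι : Type*} (t : Finset ι) (p : ι → Lift e) :
    (∏ i ∈ t, p i).a = ∏ i ∈ t, (p i).a := by
  classical
  induction t using Finset.induction_on with
  | empty => rfl
  | insert i t hi ih => rw [Finset.prod_insert hi, Finset.prod_insert hi, Lift.mul_a, ih]

variable [hfix : Fact (d.Fixed e)]

variable (d) in
/-- The action on lifts. -/
noncomputable def liftMap (s : S) : Lift e →* Lift e where
  toFun p := ⟨act (d.φ s) p.a, mapA (d.φ s).toMonoidHom p.x, hfix.out.twist_act p.stab s, by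
    have h := p.isLift.1.mapA (d.φ s)
    rw [hfix.out.fix] at h
    exact h, by rw [← map_pow, p.isLift.2, hfix.out.fix]⟩
  map_one' := by
    ext1
    · exact act_one _
    · exact hfix.out.fix s
  map_mul' p q := by
    ext1
    · exact act_mul _ _ _
    · simp only [Lift.mul_x, Lift.mul_a, map_smul, map_mul,
        hfix.out.bet_act p.stab q.stab]

variable (d) in
/-- The invariant part of a lift. -/
noncomputable def normL (p : Lift e) : Lift e := ∏ s : S, liftMap d s p

theorem normL_liftMap (p : Lift e) (t : S) : normL d (liftMap d t p) = normL d p := by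
  refine Fintype.prod_equiv (Equiv.mulRight t) _ _ fun s => ?_
  rw [Equiv.coe_mulRight]
  ext1
  · show act (d.φ s) (act (d.φ t) p.a) = act (d.φ (s * t)) p.a
    rw [act_act, ← map_mul]
  · show mapA (d.φ s).toMonoidHom (mapA (d.φ t).toMonoidHom p.x) = mapA (d.φ (s * t)).toMonoidHom p.x
    rw [mapA_mul, ← map_mul]

theorem liftMap_normL (p : Lift e) (t : S) : liftMap d t (normL d p) = normL d p := by
  rw [normL, map_prod]
  refine Fintype.prod_equiv (Equiv.mulLeft t) _ _ fun s => ?_
  rw [Equiv.coe_mulLeft]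
  ext1
  · show act (d.φ t) (act (d.φ s) p.a) = act (d.φ (t * s)) p.a
    rw [act_act, ← map_mul]
  · show mapA (d.φ t).toMonoidHom (mapA (d.φ s).toMonoidHom p.x) = mapA (d.φ (t * s)).toMonoidHom p.x
    rw [mapA_mul, ← map_mul]

theorem normL_mul (p q : Lift e) : normL d (p * q) = normL d p * normL d q := by
  simp [normL, map_mul, Finset.prod_mul_distrib]

theorem normL_a {p : Lift e} (hp : p.a ∈ d.D) : (normL d p).a = 1 := by
  rw [normL, Lift.prod_a]
  exact prod_act_eq_one hp

theorem exists_section_of_fact : ∃ u, IsSection d e u := by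
  classical
  haveI : NeZero (Nat.card K) := ⟨Nat.card_pos.ne'⟩
  -- `k` inverts `-|S|` modulo `|K|`
  obtain ⟨k, hk⟩ : ∃ k : ℕ, Nat.card K ∣ 1 + Nat.card S * k := by
    refine ⟨((-((Nat.card S : ZMod (Nat.card K))⁻¹) : ZMod (Nat.card K))).val, ?_⟩
    rw [← ZMod.natCast_eq_zero_iff, Nat.cast_add, Nat.cast_one, Nat.cast_mul,
      ZMod.natCast_rightInverse, mul_neg, ZMod.coe_mul_inv_eq_one _ d.cop.symm, add_neg_cancel]
  let q : Lift e → Lift e := fun p => p * normL d p ^ k
  have hqmul : ∀ p p', q (p * p') = q p * q p' := fun p p' => by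
    simp only [q, normL_mul, mul_pow]
    exact mul_mul_mul_comm _ _ _ _
  have hqa : ∀ p : Lift e, p.a ∈ d.D → (q p).a = p.a := fun p hp => by
    simp only [q, Lift.mul_a, Lift.pow_a, normL_a hp]
    rw [show (1 : K →* ℂˣ) ^ k = 1 from one_pow (M := K →* ℂˣ) k]
    exact mul_one p.a
  have hqe : ∀ p t, q (liftMap d t p) = liftMap d t (q p) := fun p t => by
    simp only [q, map_mul, map_pow, liftMap_normL, normL_liftMap]
  have hqdep : ∀ p p' : Lift e, p.a = p'.a → q p = q p' := by
    intro p p' h
    obtain ⟨c, hc⟩ := p'.isLift.1.eq_smul he.out (h ▸ p.isLift.good he.out)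
    have hcN : c ^ Nat.card K = 1 := by
      have h1 := p'.isLift.2
      rw [hc, smul_pow, p.isLift.2] at h1
      exact smul_left_injective ℂ he.out.ne_zero (h1.trans (one_smul ℂ e).symm)
    let η : Lift e := ⟨1, c • e, twist_one e, (inLine_one he.out).smul c, by
      obtain ⟨m, hm⟩ := hodd.out
      rw [smul_pow, hcN, one_smul]
      exact IsIdempotentElem.pow_eq he.out.idem (by omega)⟩
    have hp' : p' = p * η := by
      ext1
      · rw [Lift.mul_a]
        exact h.symm.trans (mul_one p.a).symm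
      · rw [Lift.mul_x, bet_one_right he.out p.stab, inv_one, one_smul, mul_smul_comm,
          p.isLift.1.1, hc]
    have hη : ∀ s, liftMap d s η = η := fun s => by
      ext1
      · exact act_one _
      · show mapA (d.φ s).toMonoidHom (c • e) = c • e
        rw [map_smul, hfix.out.fix]
    have hqη : q η = 1 := by
      obtain ⟨j, hj⟩ := hk
      show η * normL d η ^ k = 1
      rw [normL, Finset.prod_congr rfl fun s _ => hη s, Finset.prod_const, ← pow_mul, ← pow_succ',
        Finset.card_univ, ← Nat.card_eq_fintype_card, add_comm, hj, pow_mul, Lift.pow_card_eq_one,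
        one_pow]
    rw [hp', hqmul, hqη, mul_one]
  let L0 : ∀ a, twist a e = e → Lift e := fun a h =>
    ⟨a, _, h, (exists_lift he.out h).choose_spec⟩
  let u : (K →* ℂˣ) → GA K := fun a => if h : twist a e = e then (q (L0 a h)).x else 0
  have hu : ∀ p : Lift e, u p.a = (q p).x := fun p => by
    simp only [u, dif_pos p.stab]
    exact congrArg Lift.x (hqdep _ p rfl)
  refine ⟨u, fun a ha => ?_, ?_, fun a ha b hb => ?_, fun a ha s => ?_⟩
  · rw [show u a = (q (L0 a ha.2)).x from hu (L0 a ha.2)]
    have := (q (L0 a ha.2)).isLift.1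
    rwa [hqa _ ha.1] at this
  · show u (1 : Lift e).a = e
    rw [hu]
    have : q 1 = (1 : Lift e) := by
      simp [q, normL]
    rw [this, Lift.one_x]
  · rw [show u (a * b) = u ((L0 a ha.2) * (L0 b hb.2) : Lift e).a from rfl, hu, hqmul,
      show u a = _ from hu (L0 a ha.2), show u b = _ from hu (L0 b hb.2),
      Lift.mul_x (q (L0 a ha.2)) (q (L0 b hb.2)), hqa (L0 a ha.2) ha.1, hqa (L0 b hb.2) hb.1,
      smul_smul, mul_inv_cancel₀ (bet_ne_zero he.out ha.2 hb.2), one_smul]
  · rw [show u (act (d.φ s) a) = u (liftMap d s (L0 a ha.2)).a from rfl, hu, hqe,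
      show u a = _ from hu (L0 a ha.2)]
    rfl

end Baer

theorem exists_section (he : d.Fixed e) : ∃ u, IsSection d e u :=
  haveI := Fact.mk he.blk
  haveI := Fact.mk d.odd
  haveI := Fact.mk he
  exists_section_of_fact

/-- The canonical section. -/
noncomputable def u (d : Data K S) (e : GA K) : (K →* ℂˣ) → GA K :=
  Classical.epsilon (IsSection d e)

theorem isSection_u (he : d.Fixed e) : IsSection d e (d.u e) :=
  Classical.epsilon_spec (exists_section he)

theorem IsSection.good (he : d.Fixed e) {u : (K →* ℂˣ) → GA K} (hu : IsSection d e u)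
    {a : K →* ℂˣ} (ha : a ∈ d.stab e) : Good e a (u a) := by
  have hb : bet e a a⁻¹ = 1 := by
    have h := bet_mul_right he.blk ha.2 ha.2 ((d.stab e).inv_mem ha).2
    rwa [show a * a⁻¹ = 1 from mul_inv_cancel a, bet_one_right he.blk ha.2, bet_self he.blk ha.2,
      one_mul, eq_comm] at h
  have hb' : bet e a⁻¹ a = 1 := by
    rw [bet_inv he.blk ha.2 ((d.stab e).inv_mem ha).2, hb, inv_one]
  refine ⟨hu.line a ha, u a⁻¹, hu.line _ ((d.stab e).inv_mem ha), ?_, ?_⟩
  · rw [hu.mul a ha _ ((d.stab e).inv_mem ha), hb, one_smul,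
      show a * a⁻¹ = 1 from mul_inv_cancel a, hu.one]
  · rw [hu.mul _ ((d.stab e).inv_mem ha) a ha, hb', one_smul,
      show a⁻¹ * a = 1 from inv_mul_cancel a, hu.one]

theorem IsSection.eq (he : d.Fixed e) {v : (K →* ℂˣ) → GA K} (hv : IsSection d e v)
    {a : K →* ℂˣ} (ha : a ∈ d.stab e) : v a = d.u e a := by
  classical
  have hu := isSection_u he
  let r : (K →* ℂˣ) → ℂ := fun a => Classical.epsilon fun c => v a = c • d.u e a
  have hr : ∀ b ∈ d.stab e, v b = r b • d.u e b := fun b hb =>
    Classical.epsilon_spec ((hv.line b hb).eq_smul he.blk (hu.good he hb))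
  have huniq : ∀ b ∈ d.stab e, ∀ c, v b = c • d.u e b → r b = c := fun b hb c hc =>
    smul_left_injective ℂ ((hu.good he hb).ne_zero he.blk) ((hr b hb).symm.trans hc)
  have h1 : r 1 = 1 := huniq 1 (d.stab e).one_mem 1 (by rw [hv.one, hu.one, one_smul])
  have hmul : ∀ b ∈ d.stab e, ∀ c ∈ d.stab e, r (b * c) = r b * r c := by
    intro b hb c hc
    refine huniq _ ((d.stab e).mul_mem hb hc) _ ?_
    refine smul_right_injective (GA K) (bet_ne_zero he.blk hb.2 hc.2) ?_
    simp only
    rw [← hv.mul b hb c hc, hr b hb, hr c hc, smul_mul_smul_comm, hu.mul b hb c hc, smul_comm]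
  have hinv : ∀ b ∈ d.stab e, ∀ s, r (act (d.φ s) b) = r b := fun b hb s =>
    huniq _ (he.act_mem_stab hb s) _ (by
      rw [hv.equiv b hb, hr b hb, map_smul, ← hu.equiv b hb])
  have := eq_one_of_invariant (A := d.stab e) (fun b hb => hb.1)
    (fun b hb s => he.act_mem_stab hb s) h1 hmul hinv ha
  rw [hr a ha, this, one_smul]

/-- An automorphism that respects the data. -/
structure Compat (d : Data K S) (α : MulAut K) : Prop where
  comm : ∀ s, Commute α (d.φ s)
  mem : ∀ a ∈ d.D, act α a ∈ d.D
  mem' : ∀ a ∈ d.D, act α.symm a ∈ d.D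

theorem Fixed.map (he : d.Fixed e) {α : MulAut K} (hα : d.Compat α) :
    d.Fixed (mapA α.toMonoidHom e) where
  blk := he.blk.mapA α
  fix s := by rw [mapA_mul, ← (hα.comm s).eq, ← mapA_mul, he.fix]

theorem act_mem_stab_map {α : MulAut K} (hα : d.Compat α) {a : K →* ℂˣ} (ha : a ∈ d.stab e) :
    act α a ∈ d.stab (mapA α.toMonoidHom e) := ⟨hα.mem a ha.1, Parity.twist_act ha.2⟩

theorem symm_act_mem_stab {α : MulAut K} (hα : d.Compat α) {a : K →* ℂˣ}
    (ha : a ∈ d.stab (mapA α.toMonoidHom e)) : act α.symm a ∈ d.stab e := by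
  refine ⟨hα.mem' a ha.1, ?_⟩
  have := Parity.twist_act (α := α.symm) ha.2
  rwa [mapA_symm_self] at this

theorem u_map (he : d.Fixed e) {α : MulAut K} (hα : d.Compat α) {a : K →* ℂˣ}
    (ha : a ∈ d.stab e) : mapA α.toMonoidHom (d.u e a) = d.u (mapA α.toMonoidHom e) (act α a) := by
  have hu := isSection_u he
  set e' := mapA α.toMonoidHom e with he'
  let v : (K →* ℂˣ) → GA K := fun b => mapA α.toMonoidHom (d.u e (act α.symm b))
  have hv : IsSection d e' v := by
    refine ⟨fun b hb => ?_, ?_, fun b hb c hc => ?_, fun b hb s => ?_⟩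
    · have := (hu.line _ (symm_act_mem_stab hα hb)).mapA α
      rwa [act_self_symm] at this
    · simp only [v, act_one]
      rw [hu.one]
    · simp only [v, act_mul]
      rw [← map_mul, hu.mul _ (symm_act_mem_stab hα hb) _ (symm_act_mem_stab hα hc), map_smul]
      congr 1
      rw [← bet_mapA he.blk (symm_act_mem_stab hα hb).2 (symm_act_mem_stab hα hc).2 α,
        act_self_symm, act_self_symm]
    · simp only [v]
      have hc : act α.symm (act (d.φ s) b) = act (d.φ s) (act α.symm b) := by
        rw [act_act, act_act, show (α.symm : MulAut K) = α⁻¹ from rfl,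
          ((hα.comm s).inv_left).eq]
      rw [hc, hu.equiv _ (symm_act_mem_stab hα hb), mapA_mul, mapA_mul, (hα.comm s).eq]
  have := hv.eq (he.map hα) (act_mem_stab_map hα ha)
  simpa only [v, act_symm_self] using this

end Data

end CfsgLib.CharsMore.Parity
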