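import Cfsg.Agent.Lib.CharsMore.Parity.Twist
import Cfsg.Agent.Lib.CharsMore.Parity.Fix

/-!
# An abelian section with a complement modulo it, and its parity element
-/

set_option autoImplicit false
set_option linter.unusedSectionVars false
set_option linter.style.haveILetI false

namespace CfsgLib.CharsMore.Parity

open Cfsg Module

theorem ev_mul_comm {G V : Type*} [Group G] [Fintype G] [AddCommGroup V] [Module ℂ V]
    (ρ : Representation ℂ G V) (x y : GA G) :
    ev ρ.character (x * y) = ev ρ.character (y * x) := by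
  rw [ev_character, ev_character, map_mul ρ.asAlgebraHom, map_mul ρ.asAlgebraHom]
  exact LinearMap.trace_mul_comm ℂ _ _

theorem ev_mul_comm' {G : Type*} [Group G] [Fintype G] {χ : G → ℂ} (hχ : IsIrrCharacter G χ)
    (x y : GA G) : ev χ (x * y) = ev χ (y * x) := by
  obtain ⟨n, ρ, -, rfl⟩ := hχ
  exact ev_mul_comm ρ x y

/-- Averages over a product set. -/
theorem sum_prod_set {A B H : Type*} [Group A] [Fintype A] [Group B] [Fintype B] [Group H]
    [Fintype H] (a : A →* H) (b : B →* H) (hab : ∀ h : H, ∃ x y, h = a x * b y) {M : Type*}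
    [Field M] (F : H → M) :
    (Fintype.card H : M) * ∑ x, ∑ y, F (a x * b y) =
      (Fintype.card A * Fintype.card B : ℕ) * ∑ h, F h := by
  have h1 : ∀ h : H, ∑ x, ∑ y, F (a x * h * b y) = ∑ x, ∑ y, F (a x * b y) := by
    intro h
    obtain ⟨x0, y0, rfl⟩ := hab h
    refine Fintype.sum_equiv (Equiv.mulRight x0) _ _ fun x => ?_
    refine Fintype.sum_equiv (Equiv.mulLeft y0) _ _ fun y => ?_
    simp [map_mul, mul_assoc]
  calc (Fintype.card H : M) * ∑ x, ∑ y, F (a x * b y)
      = ∑ h : H, ∑ x, ∑ y, F (a x * h * b y) := by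
        rw [Finset.sum_congr rfl fun h _ => h1 h, Finset.sum_const, Finset.card_univ, nsmul_eq_mul]
    _ = ∑ x : A, ∑ y : B, ∑ h : H, F (a x * h * b y) := by
        rw [Finset.sum_comm]
        exact Finset.sum_congr rfl fun x _ => Finset.sum_comm
    _ = ∑ x : A, ∑ y : B, ∑ h : H, F h := by
        refine Finset.sum_congr rfl fun x _ => Finset.sum_congr rfl fun y _ => ?_
        exact Fintype.sum_equiv ((Equiv.mulLeft (a x)).trans (Equiv.mulRight (b y))) _ _
          fun h => rfl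
    _ = _ := by
        rw [Finset.sum_const, Finset.sum_const, Finset.card_univ, Finset.card_univ, smul_smul,
          nsmul_eq_mul]

/-- An abelian section `K / L` of `G` with `G = K C`, `H = L C`, and an acting group fixing `C`. -/
structure Setup (G K L C S : Type*) [Group G] [Group K] [Group L] [Group C] [Group S] where
  B : Base K L S
  ι : K →* G
  ι_inj : Function.Injective ι
  j : C →* G
  cj : C →* MulAut K
  cl : C →* MulAut L
  θ : S →* MulAut G
  hcj : ∀ c k, ι (cj c k) = j c * ι k * (j c)⁻¹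
  hcl : ∀ c l, B.κ (cl c l) = cj c (B.κ l)
  fixC : ∀ s c, θ s (j c) = j c
  hφ : ∀ s k, ι (B.d.φ s k) = θ s (ι k)
  hgen : ∀ g : G, ∃ k c, g = ι k * j c
  inter : ∀ k, ι k ∈ Set.range j → k ∈ Set.range B.κ
  H : Subgroup G
  memH : ∀ h, h ∈ H ↔ ∃ l c, h = ι (B.κ l) * j c
  compat : ∀ c, B.d.Compat (cj c)
  oddC : Odd (Nat.card C)
  oddG : Odd (Nat.card G)
  copC : (Nat.card C).Coprime (Nat.card S)

namespace Setup

variable {G K L C S : Type*} [Group G] [Fintype G] [Group K] [Fintype K] [Group L] [Fintype L]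
  [Group C] [Fintype C] [Group S] [Fintype S]
variable (T : Setup G K L C S)

/-- The fixed blocks. -/
noncomputable def Th : Finset (GA K) := fixedBlocks T.B.d.φ

theorem mem_Th {e : GA K} : e ∈ T.Th ↔ T.B.d.Fixed e :=
  ⟨fun h => ⟨(mem_fixedBlocks.1 h).1, (mem_fixedBlocks.1 h).2⟩,
    fun h => mem_fixedBlocks.2 ⟨h.blk, h.fix⟩⟩

theorem Th_map {e : GA K} (he : e ∈ T.Th) (c : C) : mapA (T.cj c).toMonoidHom e ∈ T.Th :=
  T.mem_Th.2 ((T.mem_Th.1 he).map (T.compat c))

theorem mapA_cj_inv_self (c : C) (y : GA K) :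
    mapA (T.cj c⁻¹).toMonoidHom (mapA (T.cj c).toMonoidHom y) = y := by
  rw [map_inv]
  exact mapA_symm_self (T.cj c) y

theorem mapA_cj_self_inv (c : C) (y : GA K) :
    mapA (T.cj c).toMonoidHom (mapA (T.cj c⁻¹).toMonoidHom y) = y := by
  rw [map_inv]
  exact mapA_self_symm (T.cj c) y

/-- The parity element. -/
noncomputable def pi : GA K := ∑ e ∈ T.Th, T.B.d.pie e

/-- The parity element in the group algebra of the big group. -/
noncomputable def Pi : GA G := mapA T.ι T.pi

theorem pi_conj (c : C) : mapA (T.cj c).toMonoidHom T.pi = T.pi := by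
  rw [pi, map_sum]
  refine Finset.sum_bij' (fun e _ => mapA (T.cj c).toMonoidHom e)
    (fun e _ => mapA (T.cj c⁻¹).toMonoidHom e) ?_ ?_ ?_ ?_ ?_
  · exact fun e he => T.Th_map he c
  · exact fun e he => T.Th_map he c⁻¹
  · exact fun e _ => T.mapA_cj_inv_self c e
  · exact fun e _ => T.mapA_cj_self_inv c e
  · exact fun e he => Data.pie_map (T.mem_Th.1 he) (T.compat c)

theorem gen_j_Pi (c : C) : gen (T.j c) * T.Pi = T.Pi * gen (T.j c) := by
  rw [Pi, mapA_conj T.ι T.j T.cj T.hcj, T.pi_conj]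

theorem gen_l_Pi (l : L) : gen (T.ι (T.B.κ l)) * T.Pi = T.Pi * gen (T.ι (T.B.κ l)) := by
  rw [Pi, ← mapA_gen, ← map_mul, ← map_mul, pi, Finset.mul_sum, Finset.sum_mul]
  congr 1
  exact Finset.sum_congr rfl fun e he =>
    Data.gen_comm_pie (T.mem_Th.1 he) fun c hc => T.B.triv c hc l

theorem gen_H_Pi (h : T.H) : gen (h : G) * T.Pi = T.Pi * gen (h : G) := by
  obtain ⟨l, c, hlc⟩ := (T.memH _).1 h.2
  rw [hlc, gen_mul, mul_assoc, T.gen_j_Pi, ← mul_assoc, T.gen_l_Pi, mul_assoc]

theorem pi_fix (s : S) : mapA (T.B.d.φ s).toMonoidHom T.pi = T.pi := by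
  rw [pi, map_sum]
  exact Finset.sum_congr rfl fun e he => Data.pie_fix (T.mem_Th.1 he) s

theorem pie_mul_pie {e e' : GA K} (he : e ∈ T.Th) (he' : e' ∈ T.Th) (hne : e ≠ e') :
    T.B.d.pie e * T.B.d.pie e' = 0 := by
  have h1 := (T.mem_Th.1 he).blk
  have h2 := (T.mem_Th.1 he').blk
  rw [← Data.pie_mul_block (T.mem_Th.1 he), ← Data.pie_mul_block (T.mem_Th.1 he'), mul_assoc,
    ← h2.comm, ← mul_assoc e, h1.mul_eq_zero h2 hne, zero_mul, mul_zero]

theorem pi_sq : T.pi * T.pi = ∑ e ∈ T.Th, T.B.d.E e := by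
  rw [pi, Finset.sum_mul]
  refine Finset.sum_congr rfl fun e he => ?_
  rw [Finset.mul_sum, Finset.sum_eq_single e, Data.pie_sq (T.mem_Th.1 he)]
  · exact fun e' he' hne => T.pie_mul_pie he he' hne.symm
  · exact fun h => absurd he h

theorem pi_cube : T.pi * T.pi * T.pi = T.pi := by
  classical
  rw [mul_assoc, pi_sq, pi, Finset.sum_mul]
  refine Finset.sum_congr rfl fun e he => ?_
  rw [Finset.mul_sum, Finset.sum_eq_single e, Data.pie_mul_E (T.mem_Th.1 he)]
  · intro e' he' hne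
    have h1 := (T.mem_Th.1 he).blk
    have h2 := (T.mem_Th.1 he').blk
    rw [← Data.pie_mul_block (T.mem_Th.1 he), ← Data.E_mul_block (T.mem_Th.1 he'), mul_assoc,
      ← h2.comm, ← mul_assoc e, h1.mul_eq_zero h2 hne.symm, zero_mul, mul_zero]
  · exact fun h => absurd he h

theorem Pi_cube : T.Pi * T.Pi * T.Pi = T.Pi := by
  rw [Pi, ← map_mul, ← map_mul, T.pi_cube]

/-- The virtual character attached to a character. -/
noncomputable def f (χ : G → ℂ) : T.H → ℂ := fun h => ev χ (gen (h : G) * T.Pi)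

/-- A character lying over fixed blocks. -/
def Adm (χ : G → ℂ) : Prop :=
  ∀ y : GA G, ev χ (y * mapA T.ι (∑ e ∈ T.Th, e)) = ev χ y

/-- The bilinear average. -/
noncomputable def Phi (lam : K → ℂ) (χ χ' : G → ℂ) : GA G →ₗ[ℂ] GA G →ₗ[ℂ] ℂ :=
  LinearMap.mk₂ ℂ
    (fun A B => ∑ k : K, lam k * (ev χ (A * gen (T.ι k)) * ev χ' (gen (T.ι k⁻¹) * B)))
    (fun A A' B => by simp [add_mul, mul_add, map_add, Finset.sum_add_distrib])
    (fun c A B => by
      simp only [smul_mul_assoc, map_smul, smul_eq_mul, Finset.mul_sum]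
      exact Finset.sum_congr rfl fun k _ => by ring)
    (fun A B B' => by simp [mul_add, map_add, Finset.sum_add_distrib])
    (fun c A B => by
      simp only [mul_smul_comm, map_smul, smul_eq_mul, Finset.mul_sum]
      exact Finset.sum_congr rfl fun k _ => by ring)

theorem Phi_apply (lam : K → ℂ) (χ χ' : G → ℂ) (A B : GA G) :
    T.Phi lam χ χ' A B = ∑ k : K,
      lam k * (ev χ (A * gen (T.ι k)) * ev χ' (gen (T.ι k⁻¹) * B)) := rfl

end Setup

end CfsgLib.CharsMore.Parity
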