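import Cfsg.Agent.Lib.CharsMore.Parity.Elem

/-!
# Descent to the common kernel

Twist invariant elements of the group algebra are supported on the common kernel.  Hence over a
fixed block of the kernel there is exactly one fixed block, and there the averaging idempotent
over the radical acts as one.
-/

set_option autoImplicit false
set_option linter.unusedSectionVars false
set_option linter.style.haveILetI false

namespace CfsgLib.CharsMore.Parity

open Module

section Helpers

variable {G : Type*} [CommGroup G]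

theorem cg_pow_mul (a b : G) (n m : ℕ) : (a * b ^ n) ^ m = a ^ m * b ^ (n * m) := by
  rw [mul_pow, pow_mul]

theorem cg_pow_succ {N : ℕ} {b : G} (h : b ^ N = 1) (j : ℕ) : b ^ (N * j + 1) = b := by
  rw [pow_succ, pow_mul, h, one_pow, one_mul]

end Helpers

theorem pow_act_mul {K : Type*} [Group K] (a b : K →* ℂˣ) (n m : ℕ) :
    (a * b ^ n) ^ m = a ^ m * b ^ (n * m) := cg_pow_mul a b n m

theorem lin_pow_succ {K : Type*} [Group K] [Fintype K] (b : K →* ℂˣ) (j : ℕ) :
    b ^ (Nat.card K * j + 1) = b := cg_pow_succ (G := K →* ℂˣ) (lin_pow_card b) j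

theorem mapA_coeff {L K : Type*} [Group L] [Group K] [Fintype L] (α : L →* K)
    (hα : Function.Injective α) (y : GA L) (j : L) : (mapA α y).coeff (α j) = y.coeff j := by
  classical
  conv_lhs => rw [eq_sum y, map_sum]
  simp only [map_smul, mapA_gen]
  simp [gen_eq_single, MonoidAlgebra.coeff_sum, Finsupp.single_apply, hα.eq_iff]

theorem mapA_injective_of_injective {L K : Type*} [Group L] [Group K] [Fintype L] (α : L →* K)
    (hα : Function.Injective α) : Function.Injective (mapA α : GA L → GA K) := by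
  intro y z h
  apply MonoidAlgebra.coeff_injective
  ext j
  rw [← mapA_coeff α hα, h, mapA_coeff α hα]

/-- The data of an abelian section. -/
structure Base (K L S : Type*) [Group K] [Group L] [Group S] where
  d : Data K S
  κ : L →* K
  κ_inj : Function.Injective κ
  triv : ∀ ν ∈ d.D, ∀ l, ν (κ l) = 1
  sep : ∀ k, k ∉ Set.range κ → ∃ ν ∈ d.D, ν k ≠ 1
  ψ : S →* MulAut L
  equiv : ∀ s l, κ (ψ s l) = d.φ s (κ l)

namespace Base

variable {K L S : Type*} [Group K] [Fintype K] [Group L] [Fintype L] [Group S] [Fintype S]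
variable (B : Base K L S)

/-- Restriction of coefficients to the kernel. -/
noncomputable def res (y : GA K) : GA L := ∑ l : L, y.coeff (B.κ l) • gen l

theorem twist_mapA {ν : K →* ℂˣ} (hν : ν ∈ B.d.D) (y : GA L) :
    twist ν (mapA B.κ y) = mapA B.κ y :=
  algHom_ext_gen (f := (twist ν).comp (mapA B.κ)) (g := mapA B.κ) (fun l => by
    rw [AlgHom.comp_apply, mapA_gen, twist_gen, B.triv ν hν, Units.val_one, one_smul]) y

theorem mapA_comm {z : GA K} (hz : ∀ l, gen (B.κ l) * z = z * gen (B.κ l)) (y : GA L) :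
    mapA B.κ y * z = z * mapA B.κ y := by
  rw [eq_sum y, map_sum, Finset.sum_mul, Finset.mul_sum]
  exact Finset.sum_congr rfl fun l _ => by rw [map_smul, mapA_gen, smul_mul_assoc, mul_smul_comm, hz]

theorem mapA_equiv (s : S) (y : GA L) :
    mapA (B.d.φ s).toMonoidHom (mapA B.κ y) = mapA B.κ (mapA (B.ψ s).toMonoidHom y) :=
  algHom_ext_gen (f := (mapA (B.d.φ s).toMonoidHom).comp (mapA B.κ))
    (g := (mapA B.κ).comp (mapA (B.ψ s).toMonoidHom)) (fun l => by simp [B.equiv]) y

theorem twist_coeff (ν : K →* ℂˣ) (y : GA K) (k : K) :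
    (twist ν y).coeff k = (ν k : ℂ) * y.coeff k := by
  classical
  conv_lhs => rw [eq_sum y, map_sum]
  simp only [map_smul, twist_gen, smul_smul]
  rw [coeff_sum_gen, mul_comm]

theorem sum_char (k : K) [Decidable (k ∈ Set.range B.κ)] :
    ∑ ν ∈ B.d.DF, (ν k : ℂ) = if k ∈ Set.range B.κ then (B.d.DF.card : ℂ) else 0 := by
  split_ifs with h
  · obtain ⟨l, rfl⟩ := h
    rw [Finset.sum_congr rfl fun ν hν => (show (ν (B.κ l) : ℂ) = 1 by
      rw [B.triv ν (Data.mem_DF.1 hν), Units.val_one]), Finset.sum_const, nsmul_eq_mul, mul_one]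
  · obtain ⟨μ, hμ, hne⟩ := B.sep k h
    have hshift : (μ k : ℂ) * ∑ ν ∈ B.d.DF, (ν k : ℂ) = ∑ ν ∈ B.d.DF, (ν k : ℂ) := by
      rw [Finset.mul_sum]
      refine Finset.sum_bij' (fun a _ => μ * a) (fun a _ => μ⁻¹ * a) ?_ ?_ ?_ ?_ ?_
      · exact fun a ha => Data.mem_DF.2 (B.d.D.mul_mem hμ (Data.mem_DF.1 ha))
      · exact fun a ha =>
          Data.mem_DF.2 (B.d.D.mul_mem (B.d.D.inv_mem hμ) (Data.mem_DF.1 ha))
      · intro a _
        exact inv_mul_cancel_left μ a
      · intro a _
        exact mul_inv_cancel_left μ a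
      · intro a _
        rw [MonoidHom.mul_apply, Units.val_mul]
    by_contra hne0
    exact hne (Units.val_eq_one.1 ((mul_eq_right₀ hne0).1 hshift))

theorem mapA_res (y : GA K) :
    (B.d.DF.card : ℂ) • mapA B.κ (B.res y) = ∑ ν ∈ B.d.DF, twist ν y := by
  classical
  apply MonoidAlgebra.coeff_injective
  ext k
  rw [MonoidAlgebra.coeff_smul, Finsupp.smul_apply, smul_eq_mul, MonoidAlgebra.coeff_sum,
    Finsupp.finset_sum_apply, Finset.sum_congr rfl fun ν _ => twist_coeff ν y k, ← Finset.sum_mul,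
    B.sum_char]
  split_ifs with h
  · obtain ⟨l, rfl⟩ := h
    rw [mapA_coeff _ B.κ_inj, res, coeff_sum_gen]
  · rw [zero_mul, mul_eq_zero]
    right
    rw [res, map_sum]
    simp only [map_smul, mapA_gen]
    simp only [gen_eq_single, MonoidAlgebra.coeff_sum, Finsupp.finset_sum_apply,
      MonoidAlgebra.coeff_smul, Finsupp.smul_apply]
    refine Finset.sum_eq_zero fun l _ => ?_
    rw [MonoidAlgebra.coeff_single, Finsupp.single_eq_of_ne (fun hk => h ⟨l, hk.symm⟩), smul_zero]

theorem DF_card_ne_zero : (B.d.DF.card : ℂ) ≠ 0 :=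
  Nat.cast_ne_zero.2 (Finset.card_pos.2 ⟨1, Data.mem_DF.2 B.d.D.one_mem⟩).ne'

theorem mapA_res_of_invariant {y : GA K} (hy : ∀ ν ∈ B.d.D, twist ν y = y) :
    mapA B.κ (B.res y) = y := by
  refine smul_right_injective (GA K) B.DF_card_ne_zero ?_
  simp only
  rw [B.mapA_res, Finset.sum_congr rfl fun ν hν => hy ν (Data.mem_DF.1 hν), Finset.sum_const,
    Nat.cast_smul_eq_nsmul]

/-- A block of the kernel fixed by the acting group. -/
structure Fixed (f : GA L) : Prop where
  blk : IsBlock f
  fix : ∀ s, mapA (B.ψ s).toMonoidHom f = f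

variable {B} {f : GA L} {e : GA K}

/-- A twist invariant element in a block of the kernel is a scalar. -/
theorem eq_smul_of_invariant (hf : IsBlock f) {y : GA K} (hy : ∀ ν ∈ B.d.D, twist ν y = y)
    (hc : ∀ l, gen (B.κ l) * y = y * gen (B.κ l)) (hyf : y * mapA B.κ f = y) :
    ∃ c : ℂ, y = c • mapA B.κ f := by
  have hy' := B.mapA_res_of_invariant hy
  have hinj := mapA_injective_of_injective B.κ B.κ_inj
  obtain ⟨c, hc'⟩ := hf.scalar (B.res y)
    (fun z => (comm_of_gen (fun l => hinj (by rw [map_mul, map_mul, mapA_gen, hy', hc])) z).symm)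
    (hinj (by rw [map_mul, hy', hyf]))
  exact ⟨c, by rw [← hy', hc', map_smul]⟩

theorem orb_smul_block (he : IsBlock e) (hf : IsBlock f) (hne : mapA B.κ f * e ≠ 0) :
    B.d.orb e e * mapA B.κ f = mapA B.κ f := by
  classical
  set F := mapA B.κ f with hF
  have hFF : F * F = F := by rw [hF, ← map_mul, hf.idem]
  have hinv : ∀ ν ∈ B.d.D, twist ν (B.d.orb e e * F) = B.d.orb e e * F := fun ν hν => by
    rw [map_mul, Data.twist_orb e hν, hF, B.twist_mapA hν]
  have hcomm : ∀ l, gen (B.κ l) * (B.d.orb e e * F) = B.d.orb e e * F * gen (B.κ l) := by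
    intro l
    have h1 : gen (B.κ l) * B.d.orb e e = B.d.orb e e * gen (B.κ l) := by
      rw [Data.orb, mul_smul_comm, smul_mul_assoc, Finset.mul_sum, Finset.sum_mul]
      congr 1
      exact Finset.sum_congr rfl fun ν _ => ((he.twist ν).comm _).symm
    rw [← mul_assoc, h1, mul_assoc, mul_assoc]
    congr 1
    rw [hF, ← mapA_gen, ← map_mul, ← map_mul, hf.comm]
  obtain ⟨c, hc⟩ := eq_smul_of_invariant hf hinv hcomm (by rw [mul_assoc, hFF])
  have h2 : B.d.orb e e * F * e = F * e := by
    rw [mul_assoc, ← he.comm F, ← mul_assoc, Data.orb_mul he he.idem (fun b hb => hb.2), he.comm]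
  rw [hc, smul_mul_assoc] at h2
  rw [hc, smul_left_injective ℂ hne (h2.trans (one_smul ℂ (F * e)).symm), one_smul]

theorem exists_twist (he : IsBlock e) (hf : IsBlock f) (hne : mapA B.κ f * e ≠ 0) {e' : GA K}
    (he' : IsBlock e') (hne' : mapA B.κ f * e' ≠ 0) : ∃ ν ∈ B.d.D, twist ν e = e' := by
  classical
  by_contra hcon
  refine hne' ?_
  have h : e' * B.d.orb e e = 0 := by
    rw [Data.orb, mul_smul_comm, Finset.mul_sum]
    rw [Finset.sum_eq_zero fun ν hν => he'.mul_eq_zero (he.twist ν)
      fun h => hcon ⟨ν, Data.mem_DF.1 hν, h.symm⟩, smul_zero]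
  rw [← orb_smul_block he hf hne, ← he'.comm, ← mul_assoc, h, zero_mul]

/-- Over a fixed block of the kernel lies a fixed block. -/
theorem exists_fixed (hf : B.Fixed f) :
    ∃ e, B.d.Fixed e ∧ mapA B.κ f * e ≠ 0 := by
  classical
  obtain ⟨e, he, hne⟩ : ∃ e, IsBlock e ∧ mapA B.κ f * e ≠ 0 := by
    by_contra hcon
    have h0 : mapA B.κ f = 0 := by
      rw [← mul_one (mapA B.κ f), ← sum_blocks (K := K), Finset.mul_sum]
      exact Finset.sum_eq_zero fun e he => by
        by_contra h; exact hcon ⟨e, mem_blocks.1 he, h⟩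
    exact hf.blk.ne_zero (mapA_injective_of_injective _ B.κ_inj (h0.trans (map_zero _).symm))
  have hFs : ∀ s, mapA (B.d.φ s).toMonoidHom (mapA B.κ f) = mapA B.κ f := fun s => by
    rw [B.mapA_equiv, hf.fix]
  have hls : ∀ s : S, ∃ ν ∈ B.d.D, twist ν e = mapA (B.d.φ s).toMonoidHom e := fun s => by
    refine exists_twist he hf.blk hne (he.mapA (B.d.φ s)) fun h0 => hne ?_
    apply mapA_injective (B.d.φ s)
    rw [map_mul, hFs, h0, map_zero]
  choose lam hlamD hlam using hls
  have hcong : ∀ {a b a' b' : K →* ℂˣ}, twist a e = twist b e → twist a' e = twist b' e →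
      twist (a * a') e = twist (b * b') e := by
    intro a b a' b' h h'
    rw [← twist_twist, h', twist_twist, mul_comm a b', ← twist_twist, h, twist_twist,
      mul_comm b' b]
  have hcoc : ∀ s t, twist (act (B.d.φ s) (lam t) * lam s) e = twist (lam (s * t)) e := by
    intro s t
    rw [hlam, map_mul, ← mapA_mul, ← hlam t, mapA_twist, ← hlam s, twist_twist]
    rfl
  set P := ∏ t : S, lam t with hP
  have hPs : ∀ s, twist (act (B.d.φ s) P * lam s ^ Nat.card S) e = twist P e := by
    intro s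
    have h1 : ∀ t : Finset S, twist (∏ i ∈ t, act (B.d.φ s) (lam i) * lam s) e =
        twist (∏ i ∈ t, lam (s * i)) e := by
      intro t
      induction t using Finset.induction_on with
      | empty => rfl
      | insert i t hi ih =>
        rw [Finset.prod_insert hi, Finset.prod_insert hi]
        exact hcong (hcoc s i) ih
    have h2 := h1 Finset.univ
    rw [Finset.prod_mul_distrib, Finset.prod_const, Finset.card_univ, ← Nat.card_eq_fintype_card,
      Fintype.prod_equiv (Equiv.mulLeft s) (fun i => lam (s * i)) lam (fun i => rfl)] at h2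
    rw [hP, ← actHom_apply, map_prod]
    exact h2
  haveI : NeZero (Nat.card K) := ⟨Nat.card_pos.ne'⟩
  obtain ⟨k, j, hk⟩ : ∃ k j : ℕ, Nat.card S * k = Nat.card K * j + 1 := by
    rcases Nat.lt_or_ge 1 (Nat.card K) with h | h
    · obtain ⟨m, -, hm⟩ := Nat.exists_mul_mod_eq_one_of_coprime B.d.cop.symm h
      exact ⟨m, Nat.card S * m / Nat.card K, by
        conv_lhs => rw [← Nat.div_add_mod (Nat.card S * m) (Nat.card K), hm]⟩
    · have h1 : Nat.card K = 1 := le_antisymm h Nat.card_pos
      exact ⟨1, Nat.card S - 1, by rw [h1]; have : 0 < Nat.card S := Nat.card_pos; omega⟩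
  have hpow : ∀ {a b : K →* ℂˣ}, twist a e = twist b e → ∀ n : ℕ,
      twist (a ^ n) e = twist (b ^ n) e := by
    intro a b h n
    induction n with
    | zero => rw [show a ^ 0 = 1 from pow_zero a, show b ^ 0 = 1 from pow_zero b]
    | succ n ih =>
      rw [show a ^ (n + 1) = a ^ n * a from pow_succ a n,
        show b ^ (n + 1) = b ^ n * b from pow_succ b n]
      exact hcong ih h
  have hμ : P ^ k ∈ B.d.D := B.d.D.pow_mem (Subgroup.prod_mem _ fun t _ => hlamD t) k
  refine ⟨twist (P ^ k) e, ⟨he.twist _, fun s => ?_⟩, fun h0 => hne ?_⟩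
  · rw [mapA_twist, ← hlam s, twist_twist]
    have h3 := hpow (hPs s) k
    rw [pow_act_mul, hk, lin_pow_succ] at h3
    refine Eq.trans ?_ h3
    congr 2
  · have h4 : twist (P ^ k) (mapA B.κ f * e) = 0 := by rw [map_mul, B.twist_mapA hμ, h0]
    exact (twistE (P ^ k)).injective (h4.trans (map_zero _).symm)

/-- There is only one fixed block over a block of the kernel. -/
theorem fixed_unique (hf : IsBlock f) (he : B.d.Fixed e) {e' : GA K} (he' : B.d.Fixed e')
    (hne : mapA B.κ f * e ≠ 0) (hne' : mapA B.κ f * e' ≠ 0) : e = e' := by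
  obtain ⟨ν, hν, h⟩ := exists_twist he.blk hf hne he'.blk hne'
  exact (Data.fixed_twist_eq he' he hν h).2

/-- The averaging idempotent over the radical acts as one over a fixed block of the kernel. -/
theorem mul_E_eq (hf : B.Fixed f) (he : B.d.Fixed e) :
    mapA B.κ f * B.d.E e = mapA B.κ f * e := by
  classical
  set F := mapA B.κ f with hF
  rcases eq_or_ne (F * e) 0 with h0 | hne
  · rw [h0, ← Data.E_mul_block he, ← he.blk.comm, ← mul_assoc, h0, zero_mul]
  have hu := Data.isSection_u he
  have hFF : F * F = F := by rw [hF, ← map_mul, hf.blk.idem]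
  have hFu : ∀ a ∈ B.d.stab e, F * B.d.u e a = B.d.u e a * F := fun a ha =>
    B.mapA_comm (fun l => Data.gen_comm_u he (fun c hc => B.triv c hc l) ha) f
  have hFs : ∀ s, mapA (B.d.φ s).toMonoidHom F = F := fun s => by
    rw [hF, B.mapA_equiv, hf.fix]
  have hex : ∀ x, B.d.InRad e x → ∃ c : ℂ, F * B.d.u e x = c • (F * e) := by
    intro x hx
    set w := F * B.d.u e x with hw
    have hwe : w * e = w := by rw [hw, mul_assoc, (hu.line x hx.1).1]
    have hwa : ∀ a ∈ B.d.stab e, B.d.u e a * w = w * B.d.u e a := by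
      intro a ha
      rw [hw, ← mul_assoc, ← hFu a ha, mul_assoc, mul_assoc, hu.mul a ha x hx.1,
        hu.mul x hx.1 a ha, hx.2 a ha, hx.left he.blk ha, mul_comm x a]
    have hwF : w * F = w := by rw [hw, mul_assoc, ← hFu x hx.1, ← mul_assoc, hFF]
    have hwl : ∀ l, gen (B.κ l) * w = w * gen (B.κ l) := by
      intro l
      rw [hw, ← mul_assoc, mul_assoc F, ← Data.gen_comm_u he (fun c hc => B.triv c hc l) hx.1,
        ← mul_assoc F]
      congr 1
      rw [hF, ← mapA_gen, ← map_mul, ← map_mul, hf.blk.comm]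
    have hY := Data.orb_mul_of_comm he hwe hwa
    obtain ⟨c, hc⟩ := eq_smul_of_invariant hf.blk (y := B.d.orb e w)
      (fun ν hν => Data.twist_orb w hν) (fun l => by
        rw [Data.orb, mul_smul_comm, smul_mul_assoc, Finset.mul_sum, Finset.sum_mul]
        congr 1
        refine Finset.sum_congr rfl fun ν hν => ?_
        rw [← mapA_gen, ← B.twist_mapA (Data.mem_DF.1 hν) (gen l), ← map_mul, ← map_mul, mapA_gen,
          hwl]) (by
        rw [Data.orb, smul_mul_assoc, Finset.sum_mul]
        congr 1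
        refine Finset.sum_congr rfl fun ν hν => ?_
        conv_rhs => rw [← hwF, map_mul]
        rw [hF, B.twist_mapA (Data.mem_DF.1 hν)])
    exact ⟨c, by rw [← hY, hc, smul_mul_assoc]⟩
  let c : (K →* ℂˣ) → ℂ := fun x => Classical.epsilon fun c => F * B.d.u e x = c • (F * e)
  have hc : ∀ x, B.d.InRad e x → F * B.d.u e x = c x • (F * e) := fun x hx =>
    Classical.epsilon_spec (hex x hx)
  have huniq : ∀ x, B.d.InRad e x → ∀ r, F * B.d.u e x = r • (F * e) → c x = r := fun x hx r hr =>
    smul_left_injective ℂ hne ((hc x hx).symm.trans hr)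
  let A : Subgroup (K →* ℂˣ) :=
    { carrier := {x | B.d.InRad e x}
      one_mem' := Data.InRad.one he.blk
      mul_mem' := fun h h' => h.mul he.blk h'
      inv_mem' := fun h => h.inv he.blk }
  have hone : ∀ x, B.d.InRad e x → c x = 1 := fun x hx =>
    Data.eq_one_of_invariant (A := A) (d := B.d) (fun x hx => hx.1.1)
      (fun x hx s => Data.inRad_act he hx s) (huniq 1 (Data.InRad.one he.blk) 1 (by
        rw [hu.one, one_smul]))
      (fun x hx y hy => huniq _ (hx.mul he.blk hy) _ (by
        have h1 : (F * B.d.u e x) * (F * B.d.u e y) = F * B.d.u e (x * y) := by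
          rw [mul_assoc, ← mul_assoc (B.d.u e x), ← hFu x hx.1, mul_assoc, ← mul_assoc F F, hFF,
            hu.mul x hx.1 y hy.1, hy.2 x hx.1, one_smul]
        rw [← h1, hc x hx, hc y hy, smul_mul_smul_comm]
        congr 1
        rw [mul_assoc, ← mul_assoc e, he.blk.comm F, mul_assoc F, he.blk.idem, ← mul_assoc, hFF]))
      (fun x hx s => huniq _ (Data.inRad_act he hx s) _ (by
        rw [hu.equiv x hx.1, ← hFs s, ← map_mul, hc x hx, map_smul, map_mul, hFs, he.fix]))
      (show x ∈ A from hx)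
  rw [Data.E, mul_smul_comm, Finset.mul_sum, Finset.sum_congr rfl fun x hx => (show _ = F * e by
      rw [hc x (Data.mem_radF.1 hx), hone x (Data.mem_radF.1 hx), one_smul]), Finset.sum_const,
    ← Nat.cast_smul_eq_nsmul ℂ, smul_smul, inv_mul_cancel₀ (Data.radF_card_ne_zero he.blk),
    one_smul]

end Base

end CfsgLib.CharsMore.Parity
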